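import Groth.Agent.RelTildeLib.TwistMul
import Groth.Agent.Props.GenPull

/-!
Pullback of twisting sheaves along morphisms of relative Proj's induced by graded homomorphisms.
-/

universe u

open CategoryTheory CategoryTheory.Limits AlgebraicGeometry Opposite TopologicalSpace
open scoped HomogeneousIdeal

noncomputable section

namespace Groth.Agent.RelTildeLib

open GrModLib RelProj Props.GenLocus

section Map

variable {Y Y' P P' : Scheme.{u}} {𝒮 : QCGrAlg Y} {𝒮' : QCGrAlg Y'} {p : P ⟶ Y} {p' : P' ⟶ Y'}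
  {chart : ∀ (U : Y.Opens) (hU : IsAffineOpen U), (((p ⁻¹ᵁ U : P.Opens) : Scheme.{u}) ≅ Proj (𝒮.deg U hU))}
  {chart' : ∀ (U : Y'.Opens) (hU : IsAffineOpen U), (((p' ⁻¹ᵁ U : P'.Opens) : Scheme.{u}) ≅ Proj (𝒮'.deg U hU))}
  {h : P' ⟶ P} {U : Y.Opens} {hU : IsAffineOpen U} {U' : Y'.Opens} {hU' : IsAffineOpen U'}
  {ψ : 𝒮.deg U hU →+*ᵍ 𝒮'.deg U' hU'} {hψ : (𝒮'.deg U' hU')₊ ≤ ((𝒮.deg U hU)₊).map ψ}

lemma emb_map_mem (heq : emb p' chart' U' hU' ≫ h = Proj.map ψ hψ ≫ emb p chart U hU)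
    (y : ProjectiveSpectrum (𝒮'.deg U' hU')) {O : P.Opens}
    (hy : (emb p' chart' U' hU').base y ∈ h ⁻¹ᵁ O) :
    (emb p chart U hU).base (ProjectiveSpectrum.comap ψ hψ y) ∈ O := by
  have h1 : h.base ((emb p' chart' U' hU').base y) = _ := congr($(heq).base y)
  exact h1 ▸ hy

/-- Functions pulled back along a morphism of relative Proj's, on charts. -/
lemma fv_map (heq : emb p' chart' U' hU' ≫ h = Proj.map ψ hψ ≫ emb p chart U hU) {O : P.Opens}
    (c : Γ(P, O)) (y : ProjectiveSpectrum (𝒮'.deg U' hU'))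
    (hy : (emb p' chart' U' hU').base y ∈ h ⁻¹ᵁ O) :
    fv p' chart' U' hU' (h.app O c) y hy =
      GrTwist.locMap ψ hψ y (fv p chart U hU c _ (emb_map_mem heq y hy)) := by
  have h1 := congr($(Scheme.Hom.congr_app heq O).hom c)
  refine (congrArg (fun t ↦ funVal t y hy) h1).trans ?_
  exact HomogeneousLocalization.val_localRingHom _

end Map

variable {Y PA PB : Scheme.{u}} {𝒜 ℬ : RelProj.QCGrAlg Y}

lemma gradedHom_res (φ : 𝒜.toQCAlg ⟶ ℬ.toQCAlg) (hφ : IsGradedHom φ) {U D : Y.Opens}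
    (hU : IsAffineOpen U) (hD : IsAffineOpen D) (i : D ≤ U) (a : 𝒜.presheaf.obj (op U)) :
    (ℬ.presheaf.map (homOfLE i).op).hom (gradedHomAt φ hφ U hU a) =
      gradedHomAt φ hφ D hD ((𝒜.presheaf.map (homOfLE i).op).hom a) :=
  congr($(φ.hom.naturality (homOfLE i).op).hom a).symm

variable {φ : 𝒜.toQCAlg ⟶ ℬ.toQCAlg} {hφ : IsGradedHom φ}
  {hirr : ∀ (U : Y.Opens) (hU : IsAffineOpen U),
    (ℬ.deg U hU)₊ ≤ ((𝒜.deg U hU)₊).map (gradedHomAt φ hφ U hU)}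
  {pA : PA ⟶ Y} {pB : PB ⟶ Y}
  {chartA : ∀ (U : Y.Opens) (hU : IsAffineOpen U), (((pA ⁻¹ᵁ U : PA.Opens) : Scheme.{u}) ≅ Proj (𝒜.deg U hU))}
  {chartB : ∀ (U : Y.Opens) (hU : IsAffineOpen U), (((pB ⁻¹ᵁ U : PB.Opens) : Scheme.{u}) ≅ Proj (ℬ.deg U hU))}
  {h : PB ⟶ PA}

lemma emb_comp_map (hh : IsRelProjMap φ hφ hirr chartA chartB h) (U : Y.Opens) (hU : IsAffineOpen U) :
    emb pB chartB U hU ≫ h = Proj.map (gradedHomAt φ hφ U hU) (hirr U hU) ≫ emb pA chartA U hU := by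
  rw [emb, Category.assoc, hh U hU, Iso.inv_hom_id_assoc]
  rfl

variable {n : ℤ} {LA : PA.Modules}
  {lamA : ∀ (U : Y.Opens) (hU : IsAffineOpen U),
    LA ⟶ (Scheme.Modules.pushforward (emb pA chartA U hU)).obj (GrTwist.twist (𝒜.deg U hU) n)}
  {LB : PB.Modules}
  {lamB : ∀ (U : Y.Opens) (hU : IsAffineOpen U),
    LB ⟶ (Scheme.Modules.pushforward (emb pB chartB U hU)).obj (GrTwist.twist (ℬ.deg U hU) n)}

/-- The twist pulls back to the twist, for algebras generated in degree one. -/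
theorem nonempty_pullback_iso (hA : IsRelProj 𝒜 pA chartA) (hB : IsRelProj ℬ pB chartB)
    (hgen : 𝒜.IsGenDegOne) (hh : IsRelProjMap φ hφ hirr chartA chartB h)
    (hLA : IsRelTwist 𝒜 pA chartA n LA lamA) (hLB : IsRelTwist ℬ pB chartB n LB lamB) :
    Nonempty ((Scheme.Modules.pullback h).obj LA ≅ LB) := by
  have H : ∀ x : PB, ∃ (U : Y.Opens) (hU : IsAffineOpen U) (g : 𝒜.presheaf.obj (op U))
      (W' : PB.Opens) (e : Γ(LA, emb pA chartA U hU ''ᵁ Proj.basicOpen (𝒜.deg U hU) g))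
      (e' : Γ(LB, W')) (hle : W' ≤ h ⁻¹ᵁ (emb pA chartA U hU ''ᵁ Proj.basicOpen (𝒜.deg U hU) g)),
      x ∈ W' ∧ W' ≤ pB ⁻¹ᵁ U ∧ IsGen LA _ e ∧ IsGen LB W' e' ∧
      (∀ y hy, ∃ hb, tv lamA U hU e y hy =
        Localization.mk (g ^ n.toNat) ⟨g ^ (-n).toNat, hb⟩) ∧
      ∀ y hy, ∃ hb, tv lamB U hU e' y hy = Localization.mk (gradedHomAt φ hφ U hU g ^ n.toNat)
        ⟨gradedHomAt φ hφ U hU g ^ (-n).toNat, hb⟩ := fun x ↦ by
    obtain ⟨U, hU, hxU⟩ := exists_affine_mem (p := pB) x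
    obtain ⟨y, rfl⟩ := exists_emb_eq (chart := chartB) U hU hxU
    let y' := ProjectiveSpectrum.comap (gradedHomAt φ hφ U hU) (hirr U hU)
      (show ProjectiveSpectrum (ℬ.deg U hU) from y)
    obtain ⟨g, hg, hgy⟩ := exists_degree_one_of_closure _ (hgen U hU) y'
    obtain ⟨e, hge, he⟩ := exists_gen_pow hLA hU hg
    obtain ⟨e', hge', he'⟩ := exists_gen_pow hLB hU ((gradedHomAt φ hφ U hU).map_mem hg)
    refine ⟨U, hU, g, _, e, e', ?_, (mem_image_dPlus_iff _ y).mpr hgy, image_le_preimage hU _,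
      hge, hge', he, he'⟩
    rintro _ ⟨z, hz, rfl⟩
    refine ⟨_, (Proj.mem_basicOpen (𝒜.deg U hU) g (ProjectiveSpectrum.comap (gradedHomAt φ hφ U hU)
      (hirr U hU) (show ProjectiveSpectrum (ℬ.deg U hU) from z))).mpr ?_,
      (congr($(emb_comp_map hh U hU).base z)).symm⟩
    exact (Proj.mem_basicOpen _ _ z).mp hz
  choose U hU g W' e e' hle hxW hW hg hg' hv hv' using H
  obtain ⟨iso, -⟩ := AmpleLib.exists_iso_of_gen W' (fun x _ ↦ Opens.mem_iSup.mpr ⟨x, hxW x⟩)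
    (fun x ↦ QCoh.res _ (hle x) (Props.GenPull.pb h (e x)))
    (fun x ↦ (Props.GenPull.isGen_pb h (hg x)).restrict (hle x)) e' hg' fun x z V hx hz u hu ↦ by
      set O := emb pA chartA (U x) (hU x) ''ᵁ Proj.basicOpen (𝒜.deg (U x) (hU x)) (g x) ⊓
        emb pA chartA (U z) (hU z) ''ᵁ Proj.basicOpen (𝒜.deg (U z) (hU z)) (g z) with hO
      obtain ⟨c, hc, -⟩ := (hg x).exists_eq (inf_le_left : O ≤ _) (QCoh.res LA inf_le_right (e z))
      have hVO : V ≤ h ⁻¹ᵁ O := fun q hq ↦ ⟨hle x (hx hq), hle z (hz hq)⟩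
      obtain rfl : u = QCoh.rres hVO (h.app O c) := by
        refine ((Props.GenPull.isGen_pb h (hg x)).restrict (hle x)).injective hx ?_
        rw [← hu, QCoh.res_res, QCoh.res_res]
        have h1 := congrArg (fun t ↦ QCoh.res ((Scheme.Modules.pullback h).obj LA) hVO
          (LFFrame.unitSec h LA O t)) hc
        rw [LFFrame.unitSec_smul, LFFrame.unitSec_res, LFFrame.unitSec_res, QCoh.res_smul] at h1
        refine Eq.trans ?_ (h1.trans (congrArg _ (QCoh.res_res _ _ _ _)))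
        exact (QCoh.res_res _ _ _ _).symm
      refine eq_of_locally_tv hLB _ _ fun q hq ↦ ?_
      obtain ⟨r, s, er, hqr⟩ := exists_basicOpen_le_affine_inter (hU x) (hU z) (pB q)
        ⟨hW x (hx hq), hW z (hz hq)⟩
      have hD := (hU x).basicOpen r
      have heq := emb_comp_map hh _ hD
      refine ⟨_, hD, hqr, fun y hy ↦ ?_⟩
      have hyA := emb_map_mem (O := O) heq y (hVO hy)
      obtain ⟨_, a1⟩ := tv_mk_basic hLA hA (hU x) hD (Y.basicOpen_le r) r rfl (e x) _ _ (hv x) _ hyA.1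
      obtain ⟨_, a2⟩ := tv_mk_basic hLA hA (hU z) hD (er ▸ Y.basicOpen_le s) s er.symm (e z) _ _
        (hv z) _ hyA.2
      obtain ⟨_, b1⟩ := tv_mk_basic hLB hB (hU x) hD (Y.basicOpen_le r) r rfl (e' x) _ _ (hv' x) y (hx hy)
      obtain ⟨_, b2⟩ := tv_mk_basic hLB hB (hU z) hD (er ▸ Y.basicOpen_le s) s er.symm (e' z) _ _
        (hv' z) y (hz hy)
      rw [tv_res, tv_smul, fv_res, fv_map heq c y, tv_res, b1, b2]
      have hA2 := congrArg (fun t ↦ tv lamA _ hD t _ hyA) hc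
      rw [tv_res, tv_smul, tv_res, a1, a2] at hA2
      have := congrArg (GrTwist.locMap _ (hirr _ hD) y) hA2
      rw [map_mul, GrTwist.locMap_mk, GrTwist.locMap_mk] at this
      simp only [map_pow, gradedHom_res φ hφ (hU x) hD, gradedHom_res φ hφ (hU z) hD] at this ⊢
      exact this
  exact ⟨iso⟩

end Groth.Agent.RelTildeLib
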