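import Groth.Agent.RelTildeLib.Existence

/-!
A graded algebra as a graded module over itself; the relative twisting sheaves.
-/

universe u

open CategoryTheory CategoryTheory.Limits AlgebraicGeometry Opposite TopologicalSpace
open scoped HomogeneousIdeal

noncomputable section

namespace Groth.Agent.RelTildeLib

open GrModLib RelProjLib RelProj

variable {Y P : Scheme.{u}} (𝒮 : QCGrAlg Y)

/-- The algebra as a graded module over itself. -/
def unitModule : GrModule 𝒮 where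
  mod := SheafOfModules.unit _
  deg U hU d := 𝒮.deg U hU d
  decomp U hU := (𝒮.graded U hU).toDecomposition
  gradedSMul U hU := ⟨fun {_ _ _ _} ha hb ↦ SetLike.mul_mem_graded (A := 𝒮.deg U hU) ha hb⟩
  map_mem hU hV i _ _ h := 𝒮.map_mem hU hV i h

/-- The algebra is quasi-coherent as a module over itself. -/
theorem isQCoh_unitModule : Coh.IsQCoh ((AMod.toOS 𝒮.toQCAlg).obj (unitModule 𝒮).mod) := by
  refine (QCoh.isQuasicoherent_iff_forall_isAffineOpen _).mpr fun U hU r ↦ ?_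
  let ρ : 𝒮.presheaf.obj (op U) →+* 𝒮.presheaf.obj (op (Y.basicOpen r)) :=
    (𝒮.presheaf.map (homOfLE (Y.basicOpen_le r)).op).hom
  let := ρ.toAlgebra
  let c := (𝒮.str.app (op U)).hom r
  have hloc : IsLocalization.Away c (𝒮.presheaf.obj (op (Y.basicOpen r))) := 𝒮.isQC U hU r
  have hnat : (𝒮.str.app (op (Y.basicOpen r))).hom (QCoh.rres (Y.basicOpen_le r) r) = ρ c :=
    congr($(𝒮.str.naturality (homOfLE (Y.basicOpen_le r)).op).hom r)
  refine ⟨fun σ ↦ ?_, fun t ht ↦ ?_⟩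
  · obtain ⟨σ', rfl⟩ : ∃ σ' : 𝒮.presheaf.obj (op (Y.basicOpen r)), σ' = σ := ⟨σ, rfl⟩
    obtain ⟨⟨a, ⟨_, k, rfl⟩⟩, hk⟩ := IsLocalization.surj (Submonoid.powers c) σ'
    refine ⟨k, a, ?_⟩
    change ρ a = (𝒮.str.app (op (Y.basicOpen r))).hom (QCoh.rres (Y.basicOpen_le r) r ^ k) * σ'
    rw [map_pow, hnat, ← map_pow, mul_comm]
    exact hk.symm
  · obtain ⟨t', rfl⟩ : ∃ t' : 𝒮.presheaf.obj (op U), t' = t := ⟨t, rfl⟩
    obtain ⟨⟨_, k, rfl⟩, hk⟩ := (IsLocalization.map_eq_zero_iff (Submonoid.powers c)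
      (𝒮.presheaf.obj (op (Y.basicOpen r))) t').mp ht
    refine ⟨k, ?_⟩
    change (𝒮.str.app (op U)).hom (r ^ k) * t' = 0
    rw [map_pow]
    exact hk

variable {𝒮} {p : P ⟶ Y}
  {chart : ∀ (U : Y.Opens) (hU : IsAffineOpen U), (((p ⁻¹ᵁ U : P.Opens) : Scheme.{u}) ≅ Proj (𝒮.deg U hU))}

lemma locMap_eq_locModMap {U V : Y.Opens} (hU : IsAffineOpen U) (hV : IsAffineOpen V) (i : V ≤ U)
    (hψ : (𝒮.deg V hV)₊ ≤ ((𝒮.deg U hU)₊).map (𝒮.res hU hV i))
    (y : ProjectiveSpectrum (𝒮.deg V hV))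
    (q : GrTwist.Loc (𝒮.deg U hU) (ProjectiveSpectrum.comap (𝒮.res hU hV i) hψ y)) :
    GrTwist.locMap (𝒮.res hU hV i) hψ y q =
      GrMod.locModMap (𝒮.res hU hV i) hψ ((unitModule 𝒮).res hU hV i) y q := by
  induction q using Localization.induction_on with
  | H x => exact GrTwist.locMap_mk _ _ y x.1 x.2

/-- The twisting sheaves exist. -/
theorem exists_isRelTwist (hP : IsRelProj 𝒮 p chart) (n : ℤ) :
    ∃ (L : P.Modules) (lam : ∀ (U : Y.Opens) (hU : IsAffineOpen U),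
      L ⟶ (Scheme.Modules.pushforward (emb p chart U hU)).obj (GrTwist.twist (𝒮.deg U hU) n)),
      IsRelTwist 𝒮 p chart n L lam := by
  have h := exists_isRelTilde (n := n) hP (isQCoh_unitModule 𝒮)
  refine ⟨glued hP (unitModule 𝒮) n, glamb hP (unitModule 𝒮) n, ⟨fun U hU W hW ↦ h.bijective U hU W hW,
    fun U hU r W s y hy hy' ↦ ?_⟩⟩
  exact (h.compat U hU r W s y hy hy').trans
    (locMap_eq_locModMap hU (hU.basicOpen r) (Y.basicOpen_le r) (𝒮.irrelevant_le_map U hU r) y _).symm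

end Groth.Agent.RelTildeLib
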