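import Groth.Agent.RelTildeLib.Frame

/-!
Generators of relative twisting sheaves: fractions on charts and their behaviour on smaller charts.
-/

universe u

open CategoryTheory CategoryTheory.Limits AlgebraicGeometry Opposite TopologicalSpace
open scoped HomogeneousIdeal

noncomputable section

namespace Groth.Agent.RelTildeLib

open GrModLib RelProj Props.GenLocus

variable {Y P : Scheme.{u}} {𝒮 : QCGrAlg Y} {p : P ⟶ Y}
  {chart : ∀ (U : Y.Opens) (hU : IsAffineOpen U), (((p ⁻¹ᵁ U : P.Opens) : Scheme.{u}) ≅ Proj (𝒮.deg U hU))}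
  {n : ℤ} {L : P.Modules}
  {lam : ∀ (U : Y.Opens) (hU : IsAffineOpen U),
    L ⟶ (Scheme.Modules.pushforward (emb p chart U hU)).obj (GrTwist.twist (𝒮.deg U hU) n)}

lemma exists_affine_mem (x : P) : ∃ U : Y.Opens, IsAffineOpen U ∧ x ∈ p ⁻¹ᵁ U := by
  obtain ⟨U, hU, hxU, -⟩ := Y.isBasis_affineOpens.exists_subset_of_mem_open
    (Set.mem_univ (p x)) isOpen_univ
  obtain ⟨V, hV, rfl⟩ := hU
  exact ⟨V, hV, hxU⟩

/-- A fraction on a chart is a section of the relative twist. -/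
lemma exists_tv_eq (hL : IsRelTwist 𝒮 p chart n L lam) {U : Y.Opens} (hU : IsAffineOpen U)
    {W : P.Opens} (hW : W ≤ p ⁻¹ᵁ U) {i j : ℕ} {a s : 𝒮.presheaf.obj (op U)}
    (ha : a ∈ 𝒮.deg U hU i) (hs : s ∈ 𝒮.deg U hU j) (h : (i : ℤ) = j + n)
    (hV : ∀ y : ProjectiveSpectrum (𝒮.deg U hU), (emb p chart U hU).base y ∈ W →
      s ∉ y.asHomogeneousIdeal) :
    ∃ e : Γ(L, W), ∀ y hy, tv lam U hU e y hy = Localization.mk a ⟨s, hV y hy⟩ := by
  obtain ⟨e, he⟩ := (hL.bijective U hU W hW).2 (fracT (V := pre p chart U hU W) ha hs h hV)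
  exact ⟨e, fun y hy ↦ congrArg (fun t ↦ GrTwist.val (V := pre p chart U hU W) t ⟨y, hy⟩) he⟩

lemma tv_ext (hL : IsRelTwist 𝒮 p chart n L lam) {U : Y.Opens} (hU : IsAffineOpen U)
    {W : P.Opens} (hW : W ≤ p ⁻¹ᵁ U) {e e' : Γ(L, W)}
    (H : ∀ y hy, tv lam U hU e y hy = tv lam U hU e' y hy) : e = e' :=
  (hL.bijective U hU W hW).1 (twist_ext (V := pre p chart U hU W) fun y ↦ H y.1 y.2)

/-- Sections are equal when they are equal on small charts. -/
lemma eq_of_locally_tv (hL : IsRelTwist 𝒮 p chart n L lam) {W : P.Opens} (e e' : Γ(L, W))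
    (H : ∀ x ∈ W, ∃ (D : Y.Opens) (hD : IsAffineOpen D), x ∈ p ⁻¹ᵁ D ∧
      ∀ y hy, tv lam D hD e y hy = tv lam D hD e' y hy) : e = e' := by
  choose D hD hx h using H
  refine QCoh.eq_of_locally_eq L (U := fun x : W ↦ W ⊓ p ⁻¹ᵁ D x.1 x.2) (fun _ ↦ inf_le_left)
    (fun x hx' ↦ Opens.mem_iSup.mpr ⟨⟨x, hx'⟩, hx', hx x hx'⟩) _ _ fun x ↦ ?_
  refine tv_ext hL (hD x.1 x.2) inf_le_right fun y hy ↦ ?_
  rw [tv_res, tv_res]
  exact h x.1 x.2 y hy.1

lemma fv_res (U : Y.Opens) (hU : IsAffineOpen U) {W W' : P.Opens} (hle : W' ≤ W) (c : Γ(P, W))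
    (y : ProjectiveSpectrum (𝒮.deg U hU)) (hy : (emb p chart U hU).base y ∈ W') :
    fv p chart U hU (QCoh.rres hle c) y hy = fv p chart U hU c y (hle hy) :=
  congrArg (fun t ↦ funVal t y hy)
    (congr($((emb p chart U hU).naturality (homOfLE hle).op).hom c))

lemma fv_mul (U : Y.Opens) (hU : IsAffineOpen U) {W : P.Opens} (c d : Γ(P, W))
    (y : ProjectiveSpectrum (𝒮.deg U hU)) (hy : (emb p chart U hU).base y ∈ W) :
    fv p chart U hU (c * d) y hy = fv p chart U hU c y hy * fv p chart U hU d y hy :=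
  (congrArg (fun t ↦ funVal t y hy) (map_mul ((emb p chart U hU).app W).hom c d)).trans
    (funVal_mul _ _ y hy)

lemma fv_one (U : Y.Opens) (hU : IsAffineOpen U) {W : P.Opens}
    (y : ProjectiveSpectrum (𝒮.deg U hU)) (hy : (emb p chart U hU).base y ∈ W) :
    fv p chart U hU (1 : Γ(P, W)) y hy = 1 :=
  (congrArg (fun t ↦ funVal t y hy) (map_one ((emb p chart U hU).app W).hom)).trans (funVal_one y hy)

/-- Functions are equal when they are equal on small charts. -/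
lemma eq_of_locally_fv {W : P.Opens} (c c' : Γ(P, W))
    (H : ∀ x ∈ W, ∃ (D : Y.Opens) (hD : IsAffineOpen D), x ∈ p ⁻¹ᵁ D ∧
      ∀ y hy, fv p chart D hD c y hy = fv p chart D hD c' y hy) : c = c' := by
  choose D hD hx h using H
  refine TopCat.Sheaf.eq_of_locally_eq' P.sheaf (fun x : W ↦ W ⊓ p ⁻¹ᵁ D x.1 x.2) W
    (fun _ ↦ homOfLE inf_le_left) (fun x hx' ↦ Opens.mem_iSup.mpr ⟨⟨x, hx'⟩, hx', hx x hx'⟩) _ _
    fun x ↦ ?_
  refine (emb_app_bijective (chart := chart) (D x.1 x.2) (hD x.1 x.2) inf_le_right).1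
    (funVal_ext fun y hy ↦ ?_)
  exact (fv_res _ _ inf_le_left c y hy).trans
    ((h x.1 x.2 y hy.1).trans (fv_res _ _ inf_le_left c' y hy).symm)

/-- A fraction on a chart is the fraction of the restrictions on a basic open. -/
lemma tv_mk_basic (hL : IsRelTwist 𝒮 p chart n L lam) (hP : IsRelProj 𝒮 p chart) {U D : Y.Opens}
    (hU : IsAffineOpen U) (hD : IsAffineOpen D) (i : D ≤ U) (r : Γ(Y, U)) (e : Y.basicOpen r = D)
    {W : P.Opens} (s : Γ(L, W)) (a b : 𝒮.presheaf.obj (op U))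
    (h : ∀ y hy, ∃ hb, tv lam U hU s y hy = Localization.mk a ⟨b, hb⟩)
    (y : ProjectiveSpectrum (𝒮.deg D hD)) (hy : (emb p chart D hD).base y ∈ W) :
    ∃ hb, tv lam D hD s y hy =
      Localization.mk ((𝒮.presheaf.map (homOfLE i).op).hom a)
        ⟨(𝒮.presheaf.map (homOfLE i).op).hom b, hb⟩ := by
  obtain ⟨hψ, hy', e'⟩ := tv_basic hL hP hU hD i r e s y hy
  obtain ⟨hb, hv⟩ := h _ hy'
  exact ⟨hb, e'.trans ((congrArg (GrTwist.locMap _ hψ y) hv).trans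
    (GrTwist.locMap_mk _ hψ y a ⟨b, hb⟩))⟩

variable {n' n'' : ℤ} {L' L'' : P.Modules}
  {lam' : ∀ (U : Y.Opens) (hU : IsAffineOpen U),
    L' ⟶ (Scheme.Modules.pushforward (emb p chart U hU)).obj (GrTwist.twist (𝒮.deg U hU) n')}
  {lam'' : ∀ (U : Y.Opens) (hU : IsAffineOpen U),
    L'' ⟶ (Scheme.Modules.pushforward (emb p chart U hU)).obj (GrTwist.twist (𝒮.deg U hU) n'')}

/-- A product equal to one stays one on a basic open. -/
lemma tv_mul_eq_one_basic (hL : IsRelTwist 𝒮 p chart n L lam)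
    (hL' : IsRelTwist 𝒮 p chart n' L' lam') (hP : IsRelProj 𝒮 p chart) {U D : Y.Opens}
    (hU : IsAffineOpen U) (hD : IsAffineOpen D) (i : D ≤ U) (r : Γ(Y, U)) (e : Y.basicOpen r = D)
    {W : P.Opens} (s : Γ(L, W)) (s' : Γ(L', W))
    (h : ∀ y hy, tv lam U hU s y hy * tv lam' U hU s' y hy = 1)
    (y : ProjectiveSpectrum (𝒮.deg D hD)) (hy : (emb p chart D hD).base y ∈ W) :
    tv lam D hD s y hy * tv lam' D hD s' y hy = 1 := by
  obtain ⟨hψ, hy', e1⟩ := tv_basic hL hP hU hD i r e s y hy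
  obtain ⟨_, _, e2⟩ := tv_basic hL' hP hU hD i r e s' y hy
  refine (congrArg₂ (· * ·) e1 e2).trans ((map_mul _ _ _).symm.trans ?_)
  exact (congrArg (GrTwist.locMap _ hψ y) (h _ hy')).trans (map_one _)

/-- A product identity stays true on a basic open. -/
lemma tv_mul_eq_basic (hL : IsRelTwist 𝒮 p chart n L lam)
    (hL' : IsRelTwist 𝒮 p chart n' L' lam') (hL'' : IsRelTwist 𝒮 p chart n'' L'' lam'')
    (hP : IsRelProj 𝒮 p chart) {U D : Y.Opens}
    (hU : IsAffineOpen U) (hD : IsAffineOpen D) (i : D ≤ U) (r : Γ(Y, U)) (e : Y.basicOpen r = D)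
    {W : P.Opens} (s : Γ(L, W)) (s' : Γ(L', W)) (s'' : Γ(L'', W))
    (h : ∀ y hy, tv lam'' U hU s'' y hy = tv lam U hU s y hy * tv lam' U hU s' y hy)
    (y : ProjectiveSpectrum (𝒮.deg D hD)) (hy : (emb p chart D hD).base y ∈ W) :
    tv lam'' D hD s'' y hy = tv lam D hD s y hy * tv lam' D hD s' y hy := by
  obtain ⟨hψ, hy', e1⟩ := tv_basic hL hP hU hD i r e s y hy
  obtain ⟨_, _, e2⟩ := tv_basic hL' hP hU hD i r e s' y hy
  obtain ⟨_, _, e3⟩ := tv_basic hL'' hP hU hD i r e s'' y hy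
  refine e3.trans ((congrArg (GrTwist.locMap _ hψ y) (h _ hy')).trans ?_)
  exact (map_mul _ _ _).trans (congrArg₂ (· * ·) e1 e2).symm

/-- Points of `D₊(f)` in a chart lie in the open cut out by `f`. -/
lemma mem_image_dPlus_iff {U : Y.Opens} {hU : IsAffineOpen U} (f : 𝒮.presheaf.obj (op U))
    (y : ProjectiveSpectrum (𝒮.deg U hU)) :
    (emb p chart U hU).base y ∈ emb p chart U hU ''ᵁ Proj.basicOpen (𝒮.deg U hU) f ↔
      f ∉ y.asHomogeneousIdeal :=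
  ⟨fun ⟨z, hz, e⟩ ↦ (emb p chart U hU).isOpenEmbedding.injective e ▸ (Proj.mem_basicOpen _ f z).mp hz,
    fun h ↦ ⟨y, (Proj.mem_basicOpen (𝒮.deg U hU) f y).mpr h, rfl⟩⟩

lemma image_le_preimage {U : Y.Opens} (hU : IsAffineOpen U) (O : (Proj (𝒮.deg U hU)).Opens) :
    emb p chart U hU ''ᵁ O ≤ p ⁻¹ᵁ U := by
  rintro _ ⟨y, -, rfl⟩
  exact emb_mem U hU y

end Groth.Agent.RelTildeLib
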