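import Groth.Agent.RelTildeLib.TwistGen
import Groth.Agent.AmpleLib.GenIso
import Groth.Agent.GrModLib.RelTwistLoc

/-!
Tensor products of twisting sheaves for algebras generated in degree one.
-/

universe u

open CategoryTheory CategoryTheory.Limits AlgebraicGeometry Opposite TopologicalSpace
open scoped HomogeneousIdeal

noncomputable section

namespace Groth.Agent.RelTildeLib

open GrModLib RelProj Props.GenLocus

variable {Y P : Scheme.{u}} {𝒮 : QCGrAlg Y} {p : P ⟶ Y}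
  {chart : ∀ (U : Y.Opens) (hU : IsAffineOpen U), (((p ⁻¹ᵁ U : P.Opens) : Scheme.{u}) ≅ Proj (𝒮.deg U hU))}

/-- In degree one every point lies in some `D₊(g)` of a chart, `g` of degree one. -/
theorem exists_deg_one_chart (hgen : 𝒮.IsGenDegOne) (x : P) :
    ∃ (U : Y.Opens) (hU : IsAffineOpen U) (g : 𝒮.presheaf.obj (op U)),
      g ∈ 𝒮.deg U hU 1 ∧ x ∈ emb p chart U hU ''ᵁ Proj.basicOpen (𝒮.deg U hU) g := by
  obtain ⟨U, hU, hxU⟩ := exists_affine_mem (p := p) x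
  obtain ⟨y, rfl⟩ := exists_emb_eq (chart := chart) U hU hxU
  obtain ⟨g, hg, hgy⟩ := exists_degree_one_of_closure _ (hgen U hU)
    (show ProjectiveSpectrum (𝒮.deg U hU) from y)
  exact ⟨U, hU, g, hg, (mem_image_dPlus_iff g y).mpr hgy⟩

variable {n : ℤ} {L : P.Modules}
  {lam : ∀ (U : Y.Opens) (hU : IsAffineOpen U),
    L ⟶ (Scheme.Modules.pushforward (emb p chart U hU)).obj (GrTwist.twist (𝒮.deg U hU) n)}

/-- The power `g ^ n` as a generator on `D₊(g)`. -/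
theorem exists_gen_pow (hL : IsRelTwist 𝒮 p chart n L lam) {U : Y.Opens} (hU : IsAffineOpen U)
    {g : 𝒮.presheaf.obj (op U)} (hg : g ∈ 𝒮.deg U hU 1) :
    ∃ e : Γ(L, emb p chart U hU ''ᵁ Proj.basicOpen (𝒮.deg U hU) g),
      IsGen L _ e ∧ ∀ y hy, ∃ hb, tv lam U hU e y hy =
        Localization.mk (g ^ n.toNat) ⟨g ^ (-n).toNat, hb⟩ := by
  have hnin : ∀ y : ProjectiveSpectrum (𝒮.deg U hU),
      (emb p chart U hU).base y ∈ emb p chart U hU ''ᵁ Proj.basicOpen (𝒮.deg U hU) g →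
      g ∉ y.asHomogeneousIdeal := fun y hy ↦ (mem_image_dPlus_iff g y).mp hy
  obtain ⟨e, he⟩ := exists_tv_eq hL hU (image_le_preimage hU _) (pow_mem_deg' hg n.toNat)
    (pow_mem_deg' hg (-n).toNat) (by push_cast; omega) fun y hy ↦ pow_nin (hnin y hy) _
  exact ⟨e, isGen_of_isUnit_chart hL hU (image_le_preimage hU _) e fun y hy ↦ by
    rw [he y hy, isUnit_mk_iff]; exact pow_nin (hnin y hy) _, fun y hy ↦ ⟨_, he y hy⟩⟩

variable {m : ℤ} {L' L'' : P.Modules}
  {lam' : ∀ (U : Y.Opens) (hU : IsAffineOpen U),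
    L' ⟶ (Scheme.Modules.pushforward (emb p chart U hU)).obj (GrTwist.twist (𝒮.deg U hU) m)}
  {lam'' : ∀ (U : Y.Opens) (hU : IsAffineOpen U),
    L'' ⟶ (Scheme.Modules.pushforward (emb p chart U hU)).obj (GrTwist.twist (𝒮.deg U hU) (n + m))}

/-- `O(n) ⊗ O(m) ≅ O(n + m)`. -/
theorem nonempty_tensor_iso (hP : IsRelProj 𝒮 p chart) (hgen : 𝒮.IsGenDegOne)
    (hL : IsRelTwist 𝒮 p chart n L lam) (hL' : IsRelTwist 𝒮 p chart m L' lam')
    (hL'' : IsRelTwist 𝒮 p chart (n + m) L'' lam'') :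
    Nonempty (CohB1.tensorMod L L' ≅ L'') := by
  have H : ∀ x : P, ∃ (U : Y.Opens) (hU : IsAffineOpen U) (W : P.Opens) (e : Γ(L, W))
      (e' : Γ(L', W)) (e'' : Γ(L'', W)), x ∈ W ∧ W ≤ p ⁻¹ᵁ U ∧ IsGen L W e ∧ IsGen L' W e' ∧
      IsGen L'' W e'' ∧
      ∀ y hy, tv lam'' U hU e'' y hy = tv lam U hU e y hy * tv lam' U hU e' y hy := fun x ↦ by
    obtain ⟨U, hU, g, hg, hxg⟩ := exists_deg_one_chart (chart := chart) hgen x
    have hW := image_le_preimage (chart := chart) hU (Proj.basicOpen (𝒮.deg U hU) g)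
    have hnin : ∀ y : ProjectiveSpectrum (𝒮.deg U hU),
        (emb p chart U hU).base y ∈ emb p chart U hU ''ᵁ Proj.basicOpen (𝒮.deg U hU) g →
        g ∉ y.asHomogeneousIdeal := fun y hy ↦ (mem_image_dPlus_iff g y).mp hy
    obtain ⟨e, hge, he⟩ := exists_gen_pow hL hU hg
    obtain ⟨e', hge', he'⟩ := exists_gen_pow hL' hU hg
    obtain ⟨e'', he''⟩ := exists_tv_eq hL'' hU hW
      (SetLike.mul_mem_graded (pow_mem_deg' hg n.toNat) (pow_mem_deg' hg m.toNat))
      (SetLike.mul_mem_graded (pow_mem_deg' hg (-n).toNat) (pow_mem_deg' hg (-m).toNat))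
      (by push_cast; omega) fun y hy h ↦
        (y.isPrime.mem_or_mem h).elim (pow_nin (hnin y hy) _) (pow_nin (hnin y hy) _)
    refine ⟨U, hU, _, e, e', e'', hxg, hW, hge, hge',
      isGen_of_isUnit_chart hL'' hU hW e'' fun y hy ↦ ?_, fun y hy ↦ ?_⟩
    · rw [he'' y hy, isUnit_mk_iff]
      exact fun h ↦ (y.isPrime.mem_or_mem h).elim (pow_nin (hnin y hy) _) (pow_nin (hnin y hy) _)
    · obtain ⟨_, h1⟩ := he y hy
      obtain ⟨_, h2⟩ := he' y hy
      rw [he'' y hy, h1, h2, Localization.mk_mul]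
      rfl
  choose U hU W e e' e'' hxW hW hg hg' hg'' hprod using H
  obtain ⟨φ, -⟩ := AmpleLib.exists_iso_of_gen W (fun x _ ↦ Opens.mem_iSup.mpr ⟨x, hxW x⟩)
    (fun x ↦ Props.GenTensor.tmul (e x) (e' x))
    (fun x ↦ Props.GenTensor.isGen_tmul (hg x) (hg' x)) e'' hg'' fun x z V hx hz u hu ↦ by
      obtain ⟨a, ha, -⟩ := (hg x).exists_eq hx (QCoh.res L hz (e z))
      obtain ⟨b, hb, -⟩ := (hg' x).exists_eq hx (QCoh.res L' hz (e' z))
      obtain rfl : u = a * b := by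
        refine (Props.GenTensor.isGen_tmul (hg x) (hg' x)).injective hx ?_
        rw [← hu, Props.GenTensor.res_tmul, ha, hb, Props.GenTensor.tmul_smul_left,
          Props.GenTensor.tmul_smul_right, smul_smul, Props.GenTensor.res_tmul]
      refine eq_of_locally_tv hL'' _ _ fun q hq ↦ ?_
      obtain ⟨r, s, er, hqr⟩ := exists_basicOpen_le_affine_inter (hU x) (hU z) (p q)
        ⟨hW x (hx hq), hW z (hz hq)⟩
      refine ⟨_, (hU x).basicOpen r, hqr, fun y hy ↦ ?_⟩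
      have h1 := tv_mul_eq_basic hL hL' hL'' hP (hU x) ((hU x).basicOpen r) (Y.basicOpen_le r) r
        rfl (e x) (e' x) (e'' x) (hprod x) y (hx hy)
      have h2 := tv_mul_eq_basic hL hL' hL'' hP (hU z) ((hU x).basicOpen r) (er ▸ Y.basicOpen_le s)
        s er.symm (e z) (e' z) (e'' z) (hprod z) y (hz hy)
      rw [tv_res, h2, tv_smul, tv_res, h1, fv_mul, ← tv_res _ _ hz (e z) y hy,
        ← tv_res _ _ hz (e' z) y hy, ha, hb, tv_smul, tv_smul, tv_res, tv_res, mul_mul_mul_comm]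
  exact ⟨φ⟩

end Groth.Agent.RelTildeLib
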