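import Groth.Agent.RelTildeLib.TwistGen
import Groth.Agent.Props.GenTensor

/-!
Twisting sheaves of divisible degree on a quasi-compact open.
-/

universe u

open CategoryTheory CategoryTheory.Limits AlgebraicGeometry Opposite TopologicalSpace
open scoped HomogeneousIdeal

noncomputable section

namespace Groth.Agent.RelTildeLib

open GrModLib RelProj Props.GenLocus

variable {Y P : Scheme.{u}} {𝒮 : QCGrAlg Y} {p : P ⟶ Y}
  {chart : ∀ (U : Y.Opens) (hU : IsAffineOpen U), (((p ⁻¹ᵁ U : P.Opens) : Scheme.{u}) ≅ Proj (𝒮.deg U hU))}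

variable (p chart) in
/-- Every point of `U` lies in some `D₊(f)` of a chart with the degree of `f` dividing `d`. -/
def Period (U : P.Opens) (d : ℕ) : Prop :=
  ∀ x ∈ U, ∃ (V : Y.Opens) (hV : IsAffineOpen V) (m : ℕ) (f : 𝒮.presheaf.obj (op V)),
    f ∈ 𝒮.deg V hV m ∧ m ∣ d ∧ x ∈ emb p chart V hV ''ᵁ Proj.basicOpen (𝒮.deg V hV) f

theorem exists_period (U : P.Opens) (hU : IsCompact (U : Set P)) :
    ∃ d : ℕ, 0 < d ∧ Period p chart U d := by
  have H : ∀ x : P, ∃ (V : Y.Opens) (hV : IsAffineOpen V) (m : ℕ) (f : 𝒮.presheaf.obj (op V)),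
      0 < m ∧ f ∈ 𝒮.deg V hV m ∧ x ∈ emb p chart V hV ''ᵁ Proj.basicOpen (𝒮.deg V hV) f := fun x ↦ by
    obtain ⟨V, hV, hx⟩ := exists_affine_mem (p := p) x
    obtain ⟨y, rfl⟩ := exists_emb_eq (chart := chart) V hV hx
    obtain ⟨m, f, hm, hf, hfy⟩ := exists_pos_nin (show ProjectiveSpectrum (𝒮.deg V hV) from y)
    exact ⟨V, hV, m, f, hm, hf, (mem_image_dPlus_iff f y).mpr hfy⟩
  choose V hV m f hm hf hx using H
  obtain ⟨t, ht⟩ := hU.elim_finite_subcover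
    (fun x ↦ ((emb p chart (V x) (hV x) ''ᵁ Proj.basicOpen (𝒮.deg (V x) (hV x)) (f x) : P.Opens) : Set P))
    (fun x ↦ (emb p chart (V x) (hV x) ''ᵁ Proj.basicOpen (𝒮.deg (V x) (hV x)) (f x)).2)
    fun x _ ↦ Set.mem_iUnion.mpr ⟨x, hx x⟩
  refine ⟨∏ x ∈ t, m x, Finset.prod_pos fun x _ ↦ hm x, fun x hxU ↦ ?_⟩
  obtain ⟨z, hz⟩ := Set.mem_iUnion.mp (ht hxU)
  obtain ⟨hzt, hz⟩ := Set.mem_iUnion.mp hz
  exact ⟨V z, hV z, m z, f z, hf z, Finset.dvd_prod_of_mem _ hzt, hz⟩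

variable {n : ℤ} {L L' : P.Modules}
  {lam : ∀ (U : Y.Opens) (hU : IsAffineOpen U),
    L ⟶ (Scheme.Modules.pushforward (emb p chart U hU)).obj (GrTwist.twist (𝒮.deg U hU) n)}
  {lam' : ∀ (U : Y.Opens) (hU : IsAffineOpen U),
    L' ⟶ (Scheme.Modules.pushforward (emb p chart U hU)).obj (GrTwist.twist (𝒮.deg U hU) (-n))}

/-- Near every point of the open the twist has a generator. -/
theorem exists_isGen_of_period (hL : IsRelTwist 𝒮 p chart n L lam) {U : P.Opens} {d : ℕ}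
    (hd : Period p chart U d) (hn : (d : ℤ) ∣ n) {x : P} (hx : x ∈ U) :
    ∃ (W : P.Opens) (e : Γ(L, W)), x ∈ W ∧ IsGen L W e := by
  obtain ⟨V, hV, m, f, hf, hmd, hxf⟩ := hd x hx
  obtain ⟨k, rfl⟩ := (Int.natCast_dvd_natCast.mpr hmd).trans hn
  set W := emb p chart V hV ''ᵁ Proj.basicOpen (𝒮.deg V hV) f
  have hW : W ≤ p ⁻¹ᵁ V := image_le_preimage hV _
  have hnin : ∀ y : ProjectiveSpectrum (𝒮.deg V hV), (emb p chart V hV).base y ∈ W →
      f ∉ y.asHomogeneousIdeal := fun y hy ↦ (mem_image_dPlus_iff f y).mp hy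
  obtain ⟨e, he⟩ := exists_tv_eq hL hV hW (pow_mem_deg' hf k.toNat) (pow_mem_deg' hf (-k).toNat)
    (by push_cast
        have h : (k.toNat : ℤ) = ((-k).toNat : ℤ) + k := by omega
        rw [h]; ring) fun y hy ↦ pow_nin (hnin y hy) _
  exact ⟨W, e, hxf, isGen_of_isUnit_chart hL hV hW e fun y hy ↦ by
    rw [he y hy, isUnit_mk_iff]; exact pow_nin (hnin y hy) _⟩

/-- `L ⊗ L'` is trivial on the open. -/
theorem nonempty_tensor_restrict_iso (hP : IsRelProj 𝒮 p chart) (hL : IsRelTwist 𝒮 p chart n L lam)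
    (hL' : IsRelTwist 𝒮 p chart (-n) L' lam') {U : P.Opens} {d : ℕ}
    (hd : Period p chart U d) (hn : (d : ℤ) ∣ n) :
    ∃ σ : Γ(CohB1.tensorMod L L', U), IsGen (CohB1.tensorMod L L') U σ := by
  have H : ∀ x : U, ∃ (V : Y.Opens) (hV : IsAffineOpen V) (W : P.Opens) (e : Γ(L, W))
      (e' : Γ(L', W)), x.1 ∈ W ∧ W ≤ p ⁻¹ᵁ V ∧ IsGen L W e ∧ IsGen L' W e' ∧
      ∀ y hy, tv lam V hV e y hy * tv lam' V hV e' y hy = 1 := by
    rintro ⟨x, hx⟩
    obtain ⟨V, hV, m, f, hf, hmd, hxf⟩ := hd x hx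
    obtain ⟨k, rfl⟩ := (Int.natCast_dvd_natCast.mpr hmd).trans hn
    set W := emb p chart V hV ''ᵁ Proj.basicOpen (𝒮.deg V hV) f
    have hW : W ≤ p ⁻¹ᵁ V := image_le_preimage hV _
    have hnin : ∀ y : ProjectiveSpectrum (𝒮.deg V hV), (emb p chart V hV).base y ∈ W →
        f ∉ y.asHomogeneousIdeal := fun y hy ↦ (mem_image_dPlus_iff f y).mp hy
    have h : (k.toNat : ℤ) = ((-k).toNat : ℤ) + k := by omega
    obtain ⟨e, he⟩ := exists_tv_eq hL hV hW (pow_mem_deg' hf k.toNat) (pow_mem_deg' hf (-k).toNat)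
      (by push_cast; rw [h]; ring) fun y hy ↦ pow_nin (hnin y hy) _
    obtain ⟨e', he'⟩ := exists_tv_eq hL' hV hW (pow_mem_deg' hf (-k).toNat) (pow_mem_deg' hf k.toNat)
      (by push_cast; rw [h]; ring) fun y hy ↦ pow_nin (hnin y hy) _
    refine ⟨V, hV, W, e, e', hxf, hW,
      isGen_of_isUnit_chart hL hV hW e fun y hy ↦ by
        rw [he y hy, isUnit_mk_iff]; exact pow_nin (hnin y hy) _,
      isGen_of_isUnit_chart hL' hV hW e' fun y hy ↦ by
        rw [he' y hy, isUnit_mk_iff]; exact pow_nin (hnin y hy) _, fun y hy ↦ ?_⟩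
    rw [he y hy, he' y hy, Localization.mk_mul, ← Localization.mk_one, Localization.mk_eq_mk_iff,
      Localization.r_iff_exists]
    exact ⟨1, by simp only [Submonoid.coe_mul, OneMemClass.coe_one]; ring⟩
  choose V hV W e e' hxW hW hg hg' hprod using H
  obtain ⟨σ, hσ⟩ := QCoh.exists_glue (CohB1.tensorMod L L') (V := U) (U := fun x : U ↦ U ⊓ W x)
    (fun x ↦ inf_le_left) (fun x hx ↦ Opens.mem_iSup.mpr ⟨⟨x, hx⟩, hx, hxW _⟩)
    (fun x ↦ QCoh.res _ inf_le_right (Props.GenTensor.tmul (e x) (e' x))) fun x z ↦ by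
      simp only [QCoh.res_res, Props.GenTensor.res_tmul]
      set O := (U ⊓ W x) ⊓ (U ⊓ W z)
      have hOx : O ≤ W x := inf_le_left.trans inf_le_right
      have hOz : O ≤ W z := inf_le_right.trans inf_le_right
      obtain ⟨a, ha, -⟩ := (hg x).exists_eq hOx (QCoh.res L hOz (e z))
      obtain ⟨b, hb, -⟩ := (hg' x).exists_eq hOx (QCoh.res L' hOz (e' z))
      have hab : a * b = 1 := eq_of_locally_fv (p := p) (chart := chart) _ _ fun q hq ↦ by
        obtain ⟨r, s, er, hxr⟩ := exists_basicOpen_le_affine_inter (hV x) (hV z) (p q)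
          ⟨hW x (hOx hq), hW z (hOz hq)⟩
        refine ⟨_, (hV x).basicOpen r, hxr, fun y hy ↦ ?_⟩
        have h1 := tv_mul_eq_one_basic hL hL' hP (hV x) ((hV x).basicOpen r) (Y.basicOpen_le r) r
          rfl (e x) (e' x) (hprod x) y (hOx hy)
        have h2 := tv_mul_eq_one_basic hL hL' hP (hV z) ((hV x).basicOpen r) (er ▸ Y.basicOpen_le s)
          s er.symm (e z) (e' z) (hprod z) y (hOz hy)
        rw [← tv_res _ _ hOz (e z) y hy, ← tv_res _ _ hOz (e' z) y hy, ha, hb, tv_smul, tv_smul,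
          tv_res, tv_res, mul_mul_mul_comm, h1, mul_one] at h2
        rw [fv_mul, fv_one, h2]
      rw [ha, hb, Props.GenTensor.tmul_smul_left, Props.GenTensor.tmul_smul_right, smul_smul, hab,
        one_smul]
  refine ⟨σ, IsGen.of_local fun x hx ↦ ⟨U ⊓ W ⟨x, hx⟩, inf_le_left, ⟨hx, hxW _⟩, ?_⟩⟩
  rw [hσ]
  exact (Props.GenTensor.isGen_tmul (hg _) (hg' _)).restrict _

end Groth.Agent.RelTildeLib
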