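import Groth.Prelude.Def_RelProj3
import Groth.Agent.GrModLib.LocalLift
import Groth.Agent.RelProjLib.Basic
import Groth.Agent.QCoh.Qcqs

/-!
Morphisms into the module `(ℳ(n))~` on a relative Proj are compatible families over the charts.
-/

universe u

open CategoryTheory CategoryTheory.Limits AlgebraicGeometry Opposite TopologicalSpace
open scoped HomogeneousIdeal

noncomputable section

namespace Groth.Agent.RelTildeLib

open GrModLib RelProjLib RelProj

variable {Y P : Scheme.{u}} {𝒮 : QCGrAlg Y} {p : P ⟶ Y}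
  {chart : ∀ (U : Y.Opens) (hU : IsAffineOpen U), (((p ⁻¹ᵁ U : P.Opens) : Scheme.{u}) ≅ Proj (𝒮.deg U hU))}
  {ℳ 𝒩 : GrModule 𝒮} {n : ℤ}

/-- The open of a chart over an open of the relative Proj. -/
abbrev pre (p : P ⟶ Y)
    (chart : ∀ (U : Y.Opens) (hU : IsAffineOpen U), (((p ⁻¹ᵁ U : P.Opens) : Scheme.{u}) ≅ Proj (𝒮.deg U hU)))
    (U : Y.Opens) (hU : IsAffineOpen U) (W : P.Opens) : (Proj (𝒮.deg U hU)).Opens :=
  emb p chart U hU ⁻¹ᵁ W

lemma emb_mem (U : Y.Opens) (hU : IsAffineOpen U) (y : Proj (𝒮.deg U hU)) :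
    emb p chart U hU y ∈ p ⁻¹ᵁ U := by
  rw [← emb_opensRange (chart := chart) U hU]
  exact ⟨y, rfl⟩

lemma exists_emb_eq (U : Y.Opens) (hU : IsAffineOpen U) {x : P} (hx : x ∈ p ⁻¹ᵁ U) :
    ∃ y : Proj (𝒮.deg U hU), emb p chart U hU y = x := by
  rw [← emb_opensRange (chart := chart) U hU] at hx
  exact hx

/-- A family of morphisms to the modules on the charts, compatible along basic opens. -/
def Compat (ℳ : GrModule 𝒮) (n : ℤ) {F : P.Modules}
    (θ : ∀ (U : Y.Opens) (hU : IsAffineOpen U),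
      F ⟶ (Scheme.Modules.pushforward (emb p chart U hU)).obj
        (GrMod.tilde (𝒮.deg U hU) (ℳ.deg U hU) n)) : Prop :=
  ∀ (U : Y.Opens) (hU : IsAffineOpen U) (r : Γ(Y, U)) (W : P.Opens) (s : Γ(F, W))
    (y : ProjectiveSpectrum (𝒮.deg (Y.basicOpen r) (hU.basicOpen r)))
    (hy : (emb p chart (Y.basicOpen r) (hU.basicOpen r)).base y ∈ W)
    (hy' : (emb p chart U hU).base (ProjectiveSpectrum.comap
      (𝒮.res hU (hU.basicOpen r) (Y.basicOpen_le r)) (𝒮.irrelevant_le_map U hU r) y) ∈ W),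
    GrMod.val (V := emb p chart (Y.basicOpen r) (hU.basicOpen r) ⁻¹ᵁ W)
        ((θ (Y.basicOpen r) (hU.basicOpen r)).app W s) ⟨y, hy⟩ =
      GrMod.locModMap (𝒮.res hU (hU.basicOpen r) (Y.basicOpen_le r)) (𝒮.irrelevant_le_map U hU r)
        (ℳ.res hU (hU.basicOpen r) (Y.basicOpen_le r)) y
        (GrMod.val (V := emb p chart U hU ⁻¹ᵁ W) ((θ U hU).app W s) ⟨_, hy'⟩)

lemma hy'_of (hP : IsRelProj 𝒮 p chart) (U : Y.Opens) (hU : IsAffineOpen U) (r : Γ(Y, U))
    {W : P.Opens} (y : ProjectiveSpectrum (𝒮.deg (Y.basicOpen r) (hU.basicOpen r)))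
    (hy : (emb p chart (Y.basicOpen r) (hU.basicOpen r)).base y ∈ W) :
    (emb p chart U hU).base (ProjectiveSpectrum.comap
      (𝒮.res hU (hU.basicOpen r) (Y.basicOpen_le r)) (𝒮.irrelevant_le_map U hU r) y) ∈ W := by
  rw [← map_res_emb hP U hU r] at hy
  exact hy

section

variable {U : Y.Opens} {hU : IsAffineOpen U} {W : P.Opens}

/-- Extensionality of sections on a chart. -/
lemma chart_ext
    {a b : Γ((Scheme.Modules.pushforward (emb p chart U hU)).obj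
      (GrMod.tilde (𝒮.deg U hU) (ℳ.deg U hU) n), W)}
    (h : ∀ (y : ProjectiveSpectrum (𝒮.deg U hU)) (hy : (emb p chart U hU).base y ∈ W),
      GrMod.val (V := pre p chart U hU W) a ⟨y, hy⟩ = GrMod.val (V := pre p chart U hU W) b ⟨y, hy⟩) :
    a = b :=
  sect_ext h

lemma val_res {W' : P.Opens} (hle : W' ≤ W)
    (a : Γ((Scheme.Modules.pushforward (emb p chart U hU)).obj
      (GrMod.tilde (𝒮.deg U hU) (ℳ.deg U hU) n), W))
    (y : ProjectiveSpectrum (𝒮.deg U hU)) (hy : (emb p chart U hU).base y ∈ W') :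
    GrMod.val (V := pre p chart U hU W') (QCoh.res _ hle a) ⟨y, hy⟩ =
      GrMod.val (V := pre p chart U hU W) a ⟨y, hle hy⟩ := rfl

/-- On a chart, sections are determined over the part of the open lying over the chart. -/
lemma res_inf_injective :
    Function.Injective (QCoh.res ((Scheme.Modules.pushforward (emb p chart U hU)).obj
      (GrMod.tilde (𝒮.deg U hU) (ℳ.deg U hU) n)) (inf_le_left : W ⊓ p ⁻¹ᵁ U ≤ W)) := by
  intro a b h
  refine chart_ext fun y hy ↦ ?_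
  have hy' : (emb p chart U hU).base y ∈ W ⊓ p ⁻¹ᵁ U := ⟨hy, emb_mem U hU y⟩
  exact (val_res _ a y hy').symm.trans
    ((congrArg (fun c ↦ GrMod.val (V := pre p chart U hU (W ⊓ p ⁻¹ᵁ U)) c ⟨y, hy'⟩) h).trans
      (val_res _ b y hy'))

end

variable {F G : P.Modules}
  {θ : ∀ (U : Y.Opens) (hU : IsAffineOpen U),
    F ⟶ (Scheme.Modules.pushforward (emb p chart U hU)).obj (GrMod.tilde (𝒮.deg U hU) (𝒩.deg U hU) n)}
  {lam' : ∀ (U : Y.Opens) (hU : IsAffineOpen U),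
    G ⟶ (Scheme.Modules.pushforward (emb p chart U hU)).obj (GrMod.tilde (𝒮.deg U hU) (𝒩.deg U hU) n)}

/-- `t` corresponds to `s` under the family `θ`. -/
def Char (θ : ∀ (U : Y.Opens) (hU : IsAffineOpen U),
    F ⟶ (Scheme.Modules.pushforward (emb p chart U hU)).obj (GrMod.tilde (𝒮.deg U hU) (𝒩.deg U hU) n))
    (lam' : ∀ (U : Y.Opens) (hU : IsAffineOpen U),
    G ⟶ (Scheme.Modules.pushforward (emb p chart U hU)).obj (GrMod.tilde (𝒮.deg U hU) (𝒩.deg U hU) n))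
    (W : P.Opens) (s : Γ(F, W)) (t : Γ(G, W)) : Prop :=
  ∀ (U : Y.Opens) (hU : IsAffineOpen U), (lam' U hU).app W t = (θ U hU).app W s

lemma le_iSup_inf_preimage (W : P.Opens) : W ≤ ⨆ U : Y.affineOpens, W ⊓ p ⁻¹ᵁ U.1 := fun x hx ↦ by
  obtain ⟨U, hU, hxU, -⟩ := Y.isBasis_affineOpens.exists_subset_of_mem_open
    (Set.mem_univ (p x)) isOpen_univ
  obtain ⟨V, hV, rfl⟩ := hU
  exact Opens.mem_iSup.mpr ⟨⟨V, hV⟩, hx, hxU⟩

lemma Char.unique (hG : IsRelTilde 𝒮 p chart 𝒩 n G lam') {W : P.Opens} {s : Γ(F, W)} {t t' : Γ(G, W)}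
    (h : Char θ lam' W s t) (h' : Char θ lam' W s t') : t = t' := by
  refine QCoh.eq_of_locally_eq G (fun _ ↦ inf_le_left) (le_iSup_inf_preimage (p := p) W) t t' fun U ↦ ?_
  refine (hG.bijective U.1 U.2 _ inf_le_right).1 ?_
  rw [QCoh.app_res, QCoh.app_res, h U.1 U.2, h' U.1 U.2]

/-- The compatibility of `θ` and `lam'` passes from an affine open to its basic opens. -/
lemma char_basic (hP : IsRelProj 𝒮 p chart) (hθ : Compat 𝒩 n θ) (hG : Compat 𝒩 n lam')
    {U D : Y.Opens} {hU : IsAffineOpen U} {hD : IsAffineOpen D} (r : Γ(Y, U))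
    (e : Y.basicOpen r = D) {W : P.Opens} {s : Γ(F, W)} {t : Γ(G, W)}
    (h : (lam' U hU).app W t = (θ U hU).app W s) : (lam' D hD).app W t = (θ D hD).app W s := by
  subst e
  refine chart_ext fun y hy ↦ ?_
  refine (hG U hU r W t y hy (hy'_of hP U hU r y hy)).trans ?_
  rw [h]
  exact (hθ U hU r W s y hy (hy'_of hP U hU r y hy)).symm

lemma exists_char (hP : IsRelProj 𝒮 p chart) (hθ : Compat 𝒩 n θ)
    (hG : IsRelTilde 𝒮 p chart 𝒩 n G lam') (W : P.Opens) (s : Γ(F, W)) :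
    ∃ t, Char θ lam' W s t := by
  have H : ∀ U : Y.affineOpens, ∃ t : Γ(G, W ⊓ p ⁻¹ᵁ U.1),
      (lam' U.1 U.2).app _ t = (θ U.1 U.2).app _ (QCoh.res F inf_le_left s) := fun U ↦
    (hG.bijective U.1 U.2 _ inf_le_right).2 _
  choose t ht using H
  obtain ⟨t₀, ht₀⟩ := QCoh.exists_glue G (fun _ ↦ inf_le_left) (le_iSup_inf_preimage (p := p) W) t
    fun U V ↦ by
    set Z := (W ⊓ p ⁻¹ᵁ U.1) ⊓ (W ⊓ p ⁻¹ᵁ V.1)
    choose r s' e hx using fun x : Z ↦
      exists_basicOpen_le_affine_inter U.2 V.2 (p x.1) ⟨x.2.1.2, x.2.2.2⟩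
    refine QCoh.eq_of_locally_eq G (U := fun x : Z ↦ Z ⊓ p ⁻¹ᵁ Y.basicOpen (r x))
      (fun _ ↦ inf_le_left) (fun x hx' ↦ Opens.mem_iSup.mpr ⟨⟨x, hx'⟩, hx', hx ⟨x, hx'⟩⟩) _ _ fun x ↦ ?_
    rw [QCoh.res_res, QCoh.res_res]
    refine (hG.bijective _ (U.2.basicOpen (r x)) _ inf_le_right).1 ?_
    refine (char_basic hP hθ hG.compat (r x) rfl
      (s := QCoh.res F (inf_le_left.trans (inf_le_left.trans inf_le_left)) s) (hU := U.2) ?_).trans
      (char_basic hP hθ hG.compat (s' x) (e x).symm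
      (s := QCoh.res F (inf_le_left.trans (inf_le_left.trans inf_le_left)) s) (hU := V.2) ?_).symm
    · rw [QCoh.app_res, ht, ← QCoh.app_res, QCoh.res_res]
    · rw [QCoh.app_res, ht, ← QCoh.app_res, QCoh.res_res]
  refine ⟨t₀, fun U hU ↦ res_inf_injective ?_⟩
  rw [← QCoh.app_res, ← QCoh.app_res, ht₀ ⟨U, hU⟩]
  exact ht ⟨U, hU⟩

/-- Morphisms into `(𝒩(n))~` are compatible families over the charts. -/
theorem existsUnique_hom (hP : IsRelProj 𝒮 p chart) (hθ : Compat 𝒩 n θ)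
    (hG : IsRelTilde 𝒮 p chart 𝒩 n G lam') :
    ∃! φ : F ⟶ G, ∀ (U : Y.Opens) (hU : IsAffineOpen U), φ ≫ lam' U hU = θ U hU := by
  choose t ht using exists_char hP hθ hG
  have hchar : ∀ (φ : F ⟶ G), (∀ (U : Y.Opens) (hU : IsAffineOpen U), φ ≫ lam' U hU = θ U hU) →
      ∀ W s, φ.app W s = t W s := fun φ hφ W s ↦
    Char.unique hG (fun U hU ↦ congr(($(hφ U hU)).app W s)) (ht W s)
  have hres : ∀ (W W' : P.Opens) (hle : W' ≤ W) (s : Γ(F, W)),
      t W' (QCoh.res F hle s) = QCoh.res G hle (t W s) := fun W W' hle s ↦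
    Char.unique hG (ht W' _) fun U hU ↦ by rw [QCoh.app_res, QCoh.app_res, ht W s U hU]
  let T : ∀ W : P.Opens, Γ(F, W) →+ Γ(G, W) := fun W ↦ AddMonoidHom.mk' (t W) fun s s' ↦
    Char.unique hG (ht W _) fun U hU ↦ by rw [map_add, map_add, ht W s U hU, ht W s' U hU]
  refine ⟨⟨PresheafOfModules.homMk
    { app := fun W ↦ AddCommGrpCat.ofHom (T W.unop)
      naturality := fun W W' i ↦ by ext s; exact hres W.unop W'.unop i.unop.le s }
    fun W (r : Γ(P, W.unop)) (s : Γ(F, W.unop)) ↦ Char.unique hG (t' := (r • t W.unop s : Γ(G, W.unop))) (ht W.unop (r • s)) fun U hU ↦ ?_⟩,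
    fun U hU ↦ ?_, fun φ hφ ↦ ?_⟩
  · rw [Scheme.Modules.Hom.app_smul, Scheme.Modules.Hom.app_smul, ht W.unop s U hU]
  · refine Scheme.Modules.hom_ext _ _ fun W ↦ ?_
    ext s
    exact ht W s U hU
  · refine Scheme.Modules.hom_ext _ _ fun W ↦ ?_
    ext s
    exact hchar φ hφ W s

/-- Two morphisms into `(𝒩(n))~` agreeing on the charts are equal. -/
theorem hom_ext_of_comp (hG : IsRelTilde 𝒮 p chart 𝒩 n G lam') {φ φ' : F ⟶ G}
    (h : ∀ (U : Y.Opens) (hU : IsAffineOpen U), φ ≫ lam' U hU = φ' ≫ lam' U hU) : φ = φ' := by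
  refine Scheme.Modules.hom_ext _ _ fun W ↦ ?_
  ext s
  exact Char.unique (θ := fun U hU ↦ φ' ≫ lam' U hU) hG
    (fun U hU ↦ congr(($(h U hU)).app W s)) (fun U hU ↦ rfl)

/-- A morphism over the charts between families of identifications is bijective. -/
theorem isIso_of_comp (hP : IsRelProj 𝒮 p chart)
    {lam : ∀ (U : Y.Opens) (hU : IsAffineOpen U),
      F ⟶ (Scheme.Modules.pushforward (emb p chart U hU)).obj (GrMod.tilde (𝒮.deg U hU) (𝒩.deg U hU) n)}
    (hF : IsRelTilde 𝒮 p chart 𝒩 n F lam) (hG : IsRelTilde 𝒮 p chart 𝒩 n G lam') (φ : F ⟶ G)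
    (hφ : ∀ (U : Y.Opens) (hU : IsAffineOpen U), φ ≫ lam' U hU = lam U hU) : IsIso φ := by
  obtain ⟨ψ, hψ, -⟩ := existsUnique_hom (θ := lam') hP hG.compat hF
  exact ⟨ψ, hom_ext_of_comp hF fun U hU ↦ by rw [Category.assoc, hψ, hφ, Category.id_comp],
    hom_ext_of_comp hG fun U hU ↦ by rw [Category.assoc, hφ, hψ, Category.id_comp]⟩

section Map

variable (u : ℳ.mod ⟶ 𝒩.mod) (hu : RelProj.IsGrModHom u)

/-- The linear map of sections of a morphism of `𝒮`-modules. -/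
abbrev linMap (U : Y.Opens) : ℳ.mod.val.obj (op U) →ₗ[𝒮.presheaf.obj (op U)] 𝒩.mod.val.obj (op U) :=
  show ℳ.mod.val.obj (op U) →ₗ[𝒮.presheaf.obj (op U)] 𝒩.mod.val.obj (op U) from (u.val.app (op U)).hom

variable (n) in
/-- The morphism on a chart induced by `u`. -/
abbrev chartMap (U : Y.Opens) (hU : IsAffineOpen U) :
    (Scheme.Modules.pushforward (emb p chart U hU)).obj (GrMod.tilde (𝒮.deg U hU) (ℳ.deg U hU) n) ⟶
      (Scheme.Modules.pushforward (emb p chart U hU)).obj (GrMod.tilde (𝒮.deg U hU) (𝒩.deg U hU) n) :=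
  (Scheme.Modules.pushforward (emb p chart U hU)).map
    (GrMod.map (𝒮.deg U hU) (linMap u U) (hu U hU) n)

lemma val_chartMap (U : Y.Opens) (hU : IsAffineOpen U) (W : P.Opens)
    (a : Γ((Scheme.Modules.pushforward (emb p chart U hU)).obj
      (GrMod.tilde (𝒮.deg U hU) (ℳ.deg U hU) n), W))
    (y : ProjectiveSpectrum (𝒮.deg U hU)) (hy : (emb p chart U hU).base y ∈ W) :
    GrMod.val (V := pre p chart U hU W) ((chartMap n u hu U hU).app W a) ⟨y, hy⟩ =
      GrMod.locMap (linMap u U) y (GrMod.val (V := pre p chart U hU W) a ⟨y, hy⟩) := rfl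

lemma locModMap_locMap {U V : Y.Opens} (hU : IsAffineOpen U) (hV : IsAffineOpen V) (i : V ≤ U)
    (hψ : (𝒮.deg V hV)₊ ≤ ((𝒮.deg U hU)₊).map (𝒮.res hU hV i))
    (y : ProjectiveSpectrum (𝒮.deg V hV))
    (q : GrMod.LocMod (𝒮.deg U hU) (M := ℳ.mod.val.obj (op U))
      (ProjectiveSpectrum.comap (𝒮.res hU hV i) hψ y)) :
    GrMod.locModMap (𝒮.res hU hV i) hψ (𝒩.res hU hV i) y
        (GrMod.locMap (linMap u U) _ q) =
      GrMod.locMap (linMap u V) y (GrMod.locModMap (𝒮.res hU hV i) hψ (ℳ.res hU hV i) y q) := by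
  induction q using LocalizedModule.induction_on with
  | h m s =>
    rw [GrMod.locMap_mk, GrMod.locModMap_mk, GrMod.locModMap_mk, GrMod.locMap_mk]
    congr 1
    exact (PresheafOfModules.naturality_apply u.val (homOfLE i).op m).symm

lemma Compat.comp_chartMap
    {lam : ∀ (U : Y.Opens) (hU : IsAffineOpen U),
      F ⟶ (Scheme.Modules.pushforward (emb p chart U hU)).obj (GrMod.tilde (𝒮.deg U hU) (ℳ.deg U hU) n)}
    (hF : Compat ℳ n lam) :
    Compat 𝒩 n fun U hU ↦ lam U hU ≫ chartMap n u hu U hU := by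
  intro U hU r W s y hy hy'
  refine (val_chartMap u hu _ _ W _ y hy).trans ?_
  refine (congrArg (GrMod.locMap (linMap u (Y.basicOpen r)) y) (hF U hU r W s y hy hy')).trans ?_
  exact (locModMap_locMap u hU (hU.basicOpen r) (Y.basicOpen_le r)
    (𝒮.irrelevant_le_map U hU r) y _).symm

end Map

end Groth.Agent.RelTildeLib
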