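import Groth.Agent.RelTildeLib.Transition
import Groth.Agent.QCoh.Exact

/-!
Existence of the module `(ℳ(n))~` on a relative Proj: compatible families of sections on the charts.
-/

universe u

open CategoryTheory CategoryTheory.Limits AlgebraicGeometry Opposite TopologicalSpace
open scoped HomogeneousIdeal

noncomputable section

namespace Groth.Agent.RelTildeLib

open GrModLib RelProjLib RelProj

section Limits

variable {X : Scheme.{u}} {ι : Type u} (T : ι → X.Modules)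

/-- The sections of a product of modules over an open. -/
lemma sections_prod_bijective (W : X.Opens) :
    Function.Bijective (fun (t : Γ(∏ᶜ T, W)) (i : ι) ↦ (Pi.π T i).app W t) := by
  let G := QCoh.sectionsFunctor X W ⋙ forget Ab.{u}
  let e : (G.obj (∏ᶜ T)) ≅ ∏ᶜ fun i ↦ G.obj (T i) := PreservesProduct.iso G T
  let q := e.toEquiv.trans (Types.productIso fun i ↦ G.obj (T i)).toEquiv
  have hq : ∀ t i, q t i = (Pi.π T i).app W t := fun t i ↦ by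
    change (Types.productIso fun i ↦ G.obj (T i)).hom (e.hom t) i = _
    rw [Types.productIso_hom_comp_eval_apply]
    exact ConcreteCategory.congr_hom (piComparison_comp_π G T i) t
  have : (fun (t : Γ(∏ᶜ T, W)) (i : ι) ↦ (Pi.π T i).app W t) = q := funext fun t ↦ funext fun i ↦
    (hq t i).symm
  rw [this]
  exact q.bijective

end Limits

variable {Y P : Scheme.{u}} {𝒮 : QCGrAlg Y} {p : P ⟶ Y}
  {chart : ∀ (U : Y.Opens) (hU : IsAffineOpen U), (((p ⁻¹ᵁ U : P.Opens) : Scheme.{u}) ≅ Proj (𝒮.deg U hU))}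
  (hP : IsRelProj 𝒮 p chart) (ℳ : GrModule 𝒮) (n : ℤ)

/-- The pairs of an affine open and a function on it. -/
abbrev BasicPair (Y : Scheme.{u}) := Σ U : Y.affineOpens, Γ(Y, U.1)

/-- The product of all the charts. -/
abbrev allCharts (p : P ⟶ Y)
    (chart : ∀ (U : Y.Opens) (hU : IsAffineOpen U), (((p ⁻¹ᵁ U : P.Opens) : Scheme.{u}) ≅ Proj (𝒮.deg U hU))) :
    P.Modules :=
  ∏ᶜ fun U : Y.affineOpens ↦ chartMod ℳ n p chart U.1 U.2

/-- The chart of the basic open of a pair. -/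
abbrev pairMod (p : P ⟶ Y)
    (chart : ∀ (U : Y.Opens) (hU : IsAffineOpen U), (((p ⁻¹ᵁ U : P.Opens) : Scheme.{u}) ≅ Proj (𝒮.deg U hU)))
    (Ur : BasicPair Y) : P.Modules :=
  chartMod ℳ n p chart (Y.basicOpen Ur.2) (Ur.1.2.basicOpen Ur.2)

/-- The defect of compatibility along basic opens. -/
def defect : allCharts ℳ n p chart ⟶
    ∏ᶜ pairMod ℳ n p chart :=
  Pi.lift fun Ur ↦ Pi.π (fun U : Y.affineOpens ↦ chartMod ℳ n p chart U.1 U.2)
      ⟨Y.basicOpen Ur.2, Ur.1.2.basicOpen Ur.2⟩ -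
    Pi.π (fun U : Y.affineOpens ↦ chartMod ℳ n p chart U.1 U.2) Ur.1 ≫
      transMap hP ℳ n Ur.1.2 (Ur.1.2.basicOpen Ur.2) (Y.basicOpen_le Ur.2)

/-- The module of compatible families. -/
def glued : P.Modules := kernel (defect hP ℳ n)

/-- The component on a chart of a compatible family. -/
def glamb (U : Y.Opens) (hU : IsAffineOpen U) : glued hP ℳ n ⟶ chartMod ℳ n p chart U hU :=
  kernel.ι (defect hP ℳ n) ≫ Pi.π (fun U : Y.affineOpens ↦ chartMod ℳ n p chart U.1 U.2) ⟨U, hU⟩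

variable {ℳ n}

lemma glamb_compat (U : Y.Opens) (hU : IsAffineOpen U) (r : Γ(Y, U)) (W : P.Opens)
    (s : Γ(glued hP ℳ n, W)) :
    (glamb hP ℳ n (Y.basicOpen r) (hU.basicOpen r)).app W s =
      (transMap hP ℳ n hU (hU.basicOpen r) (Y.basicOpen_le r)).app W ((glamb hP ℳ n U hU).app W s) := by
  have h : (glamb hP ℳ n (Y.basicOpen r) (hU.basicOpen r)) =
      glamb hP ℳ n U hU ≫ transMap hP ℳ n hU (hU.basicOpen r) (Y.basicOpen_le r) := by
    rw [glamb, glamb, Category.assoc, ← sub_eq_zero, ← Preadditive.comp_sub]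
    have h1 : kernel.ι (defect hP ℳ n) ≫ defect hP ℳ n ≫ Pi.π
        (pairMod ℳ n p chart) ⟨⟨U, hU⟩, r⟩ = 0 := by
      rw [kernel.condition_assoc, zero_comp]
    rw [show defect hP ℳ n ≫ Pi.π (pairMod ℳ n p chart) ⟨⟨U, hU⟩, r⟩ = _ from Pi.lift_π _ _] at h1
    exact h1
  exact congr(($h).app W s)

/-- A family killed by the defect comes from the glued module. -/
lemma exists_glamb (W : P.Opens) (a : ∀ U : Y.affineOpens, Γ(chartMod ℳ n p chart U.1 U.2, W))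
    (ha : ∀ (U : Y.Opens) (hU : IsAffineOpen U) (r : Γ(Y, U)),
      (transMap hP ℳ n hU (hU.basicOpen r) (Y.basicOpen_le r)).app W (a ⟨U, hU⟩) =
        a ⟨Y.basicOpen r, hU.basicOpen r⟩) :
    ∃ s : Γ(glued hP ℳ n, W), ∀ U hU, (glamb hP ℳ n U hU).app W s = a ⟨U, hU⟩ := by
  obtain ⟨t, ht⟩ := (sections_prod_bijective
    (fun U : Y.affineOpens ↦ chartMod ℳ n p chart U.1 U.2) W).2 a
  have ht' : ∀ U, (Pi.π (fun U : Y.affineOpens ↦ chartMod ℳ n p chart U.1 U.2) U).app W t = a U :=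
    fun U ↦ congrFun ht U
  have hz : (defect hP ℳ n).app W t = 0 := by
    refine (sections_prod_bijective (pairMod ℳ n p chart) W).1 (funext fun Ur ↦ ?_)
    change (defect hP ℳ n ≫ Pi.π (pairMod ℳ n p chart) Ur).app W t =
      (Pi.π (pairMod ℳ n p chart) Ur).app W 0
    rw [defect, Pi.lift_π, map_zero]
    change (Pi.π (fun U : Y.affineOpens ↦ chartMod ℳ n p chart U.1 U.2)
        ⟨Y.basicOpen Ur.2, Ur.1.2.basicOpen Ur.2⟩).app W t -
      (transMap hP ℳ n Ur.1.2 (Ur.1.2.basicOpen Ur.2) (Y.basicOpen_le Ur.2)).app W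
        ((Pi.π (fun U : Y.affineOpens ↦ chartMod ℳ n p chart U.1 U.2) Ur.1).app W t) = 0
    rw [ht', ht', sub_eq_zero]
    exact (ha _ Ur.1.2 Ur.2).symm
  let S := ShortComplex.mk (kernel.ι (defect hP ℳ n)) (defect hP ℳ n) (kernel.condition _)
  have hS : S.Exact := ShortComplex.exact_of_f_is_kernel _ (kernelIsKernel _)
  obtain ⟨s, hs⟩ := QCoh.exists_app_eq_of_app_eq_zero S hS W t hz
  refine ⟨s, fun U hU ↦ ?_⟩
  rw [← ht' ⟨U, hU⟩]
  change (Pi.π (fun U : Y.affineOpens ↦ chartMod ℳ n p chart U.1 U.2) ⟨U, hU⟩).app W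
    ((kernel.ι (defect hP ℳ n)).app W s) = _
  exact congrArg _ hs

lemma glamb_ext (W : P.Opens) {s s' : Γ(glued hP ℳ n, W)}
    (h : ∀ U hU, (glamb hP ℳ n U hU).app W s = (glamb hP ℳ n U hU).app W s') : s = s' := by
  refine QCoh.app_injective_of_mono (kernel.ι (defect hP ℳ n)) W ?_
  exact (sections_prod_bijective _ W).1 (funext fun U ↦ h U.1 U.2)

section Extend

variable {U₀ : Y.Opens} {hU₀ : IsAffineOpen U₀} {W : P.Opens}
  (a : Γ(chartMod ℳ n p chart U₀ hU₀, W))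

/-- `b` agrees with `a` on all common smaller affine opens. -/
def Agree (V : Y.Opens) (hV : IsAffineOpen V) (b : Γ(chartMod ℳ n p chart V hV, W)) : Prop :=
  ∀ (D : Y.Opens) (hD : IsAffineOpen D) (h₀ : D ≤ U₀) (h : D ≤ V),
    (transMap hP ℳ n hU₀ hD h₀).app W a = (transMap hP ℳ n hV hD h).app W b

lemma agree_self : Agree hP a U₀ hU₀ a := fun _ _ _ _ ↦ rfl

lemma Agree.map {V : Y.Opens} {hV : IsAffineOpen V} {b : Γ(chartMod ℳ n p chart V hV, W)}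
    (hb : Agree hP a V hV b) {V' : Y.Opens} (hV' : IsAffineOpen V') (i : V' ≤ V) :
    Agree hP a V' hV' ((transMap hP ℳ n hV hV' i).app W b) := fun D hD h₀ h ↦ by
  rw [trans_trans hP hV hV' hD i h]
  exact hb D hD h₀ (h.trans i)

variable (hℳ : Coh.IsQCoh ((AMod.toOS 𝒮.toQCAlg).obj ℳ.mod)) (hW : W ≤ p ⁻¹ᵁ U₀)

include hℳ hW in
lemma Agree.unique {V : Y.Opens} {hV : IsAffineOpen V} {b b' : Γ(chartMod ℳ n p chart V hV, W)}
    (hb : Agree hP a V hV b) (hb' : Agree hP a V hV b') : b = b' := by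
  refine res_inf_injective ?_
  choose r s e hx using fun x : (W ⊓ p ⁻¹ᵁ V : P.Opens) ↦
    exists_basicOpen_le_affine_inter hU₀ hV (p x.1) ⟨hW x.2.1, x.2.2⟩
  refine QCoh.eq_of_locally_eq _ (U := fun x ↦ (W ⊓ p ⁻¹ᵁ V) ⊓ p ⁻¹ᵁ Y.basicOpen (r x))
    (fun _ ↦ inf_le_left) (fun x hx' ↦ Opens.mem_iSup.mpr ⟨⟨x, hx'⟩, hx', hx ⟨x, hx'⟩⟩) _ _ fun x ↦ ?_
  rw [QCoh.res_res, QCoh.res_res]
  have hDV : Y.basicOpen (r x) ≤ V := e x ▸ Y.basicOpen_le (s x)
  refine trans_injective hP hℳ hV (hU₀.basicOpen (r x)) hDV (s x) (e x).symm inf_le_right ?_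
  rw [QCoh.app_res, QCoh.app_res, ← hb _ _ (Y.basicOpen_le _) hDV, ← hb' _ _ (Y.basicOpen_le _) hDV]

include hℳ hW in
lemma exists_agree (V : Y.Opens) (hV : IsAffineOpen V) : ∃ b, Agree hP a V hV b := by
  choose r s e hx using fun x : (W ⊓ p ⁻¹ᵁ V : P.Opens) ↦
    exists_basicOpen_le_affine_inter hU₀ hV (p x.1) ⟨hW x.2.1, x.2.2⟩
  have hDV : ∀ x, Y.basicOpen (r x) ≤ V := fun x ↦ e x ▸ Y.basicOpen_le (s x)
  let O : (W ⊓ p ⁻¹ᵁ V : P.Opens) → P.Opens := fun x ↦ (W ⊓ p ⁻¹ᵁ V) ⊓ p ⁻¹ᵁ Y.basicOpen (r x)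
  have hO : ∀ x, O x ≤ W := fun x ↦ inf_le_left.trans inf_le_left
  choose b hb using fun x ↦ (trans_bijective hP hℳ hV (hU₀.basicOpen (r x)) (hDV x) (s x) (e x).symm
    (W := O x) inf_le_right).2
      ((transMap hP ℳ n hU₀ (hU₀.basicOpen (r x)) (Y.basicOpen_le _)).app _ (QCoh.res _ (hO x) a))
  -- any two of the local solutions agree on a common smaller chart
  have key : ∀ (x : (W ⊓ p ⁻¹ᵁ V : P.Opens)) (Z : Y.Opens) (hZ : IsAffineOpen Z)
      (hZr : Z ≤ Y.basicOpen (r x)) (O' : P.Opens) (hO' : O' ≤ O x),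
      (transMap hP ℳ n hU₀ hZ (hZr.trans (Y.basicOpen_le _))).app O'
          (QCoh.res _ (hO'.trans (hO x)) a) =
        (transMap hP ℳ n hV hZ (hZr.trans (hDV x))).app O' (QCoh.res _ hO' (b x)) := by
    intro x Z hZ hZr O' hO'
    rw [← trans_trans hP hU₀ (hU₀.basicOpen (r x)) hZ (Y.basicOpen_le _) hZr,
      ← trans_trans hP hV (hU₀.basicOpen (r x)) hZ (hDV x) hZr,
      QCoh.app_res (transMap hP ℳ n hV (hU₀.basicOpen (r x)) (hDV x)), hb x, ← QCoh.app_res,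
      QCoh.res_res]
  obtain ⟨b₀, hb₀⟩ := QCoh.exists_glue (chartMod ℳ n p chart V hV) (U := O) (fun x ↦ inf_le_left)
    (fun x hx' ↦ Opens.mem_iSup.mpr ⟨⟨x, hx'⟩, hx', hx ⟨x, hx'⟩⟩) b fun x x' ↦ by
    have hDD : Y.basicOpen (s x) ⊓ Y.basicOpen (s x') = Y.basicOpen (s x * s x') :=
      (Y.basicOpen_mul _ _).symm
    have hZ : IsAffineOpen (Y.basicOpen (s x * s x')) := hV.basicOpen _
    have h1 : Y.basicOpen (s x * s x') ≤ Y.basicOpen (r x) := (e x).symm ▸ hDD ▸ inf_le_left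
    have h2 : Y.basicOpen (s x * s x') ≤ Y.basicOpen (r x') := (e x').symm ▸ hDD ▸ inf_le_right
    refine trans_injective hP hℳ hV hZ (Y.basicOpen_le _) (s x * s x') rfl
      (W := O x ⊓ O x') (fun y hy ↦ ?_) ?_
    · change p y ∈ Y.basicOpen (s x * s x')
      rw [← hDD, ← e x, ← e x']
      exact ⟨hy.1.2, hy.2.2⟩
    · exact (key x _ hZ h1 _ inf_le_left).symm.trans (key x' _ hZ h2 _ inf_le_right)
  obtain ⟨b₁, hb₁⟩ : ∃ b₁, QCoh.res (chartMod ℳ n p chart V hV) inf_le_left b₁ = b₀ := by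
    have hle : pre p chart V hV W ≤ pre p chart V hV (W ⊓ p ⁻¹ᵁ V) := fun y hy ↦ ⟨hy, emb_mem V hV y⟩
    exact ⟨GrMod.res (𝒮.deg V hV) (ℳ.deg V hV) n (homOfLE hle).op b₀, rfl⟩
  refine ⟨b₁, fun D hD h₀ h ↦ res_inf_injective ?_⟩
  choose t t' et ht using fun x : (W ⊓ p ⁻¹ᵁ D : P.Opens) ↦
    exists_basicOpen_le_affine_inter hD (hU₀.basicOpen (r ⟨x.1, x.2.1, h x.2.2⟩))
      (p x.1) ⟨x.2.2, hx ⟨x.1, x.2.1, h x.2.2⟩⟩
  refine QCoh.eq_of_locally_eq _ (U := fun x ↦ (W ⊓ p ⁻¹ᵁ D) ⊓ p ⁻¹ᵁ Y.basicOpen (t x))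
    (fun _ ↦ inf_le_left) (fun x hx' ↦ Opens.mem_iSup.mpr ⟨⟨x, hx'⟩, hx', ht ⟨x, hx'⟩⟩) _ _ fun x ↦ ?_
  rw [QCoh.res_res, QCoh.res_res]
  set x' : (W ⊓ p ⁻¹ᵁ V : P.Opens) := ⟨x.1, x.2.1, h x.2.2⟩
  have hZr : Y.basicOpen (t x) ≤ Y.basicOpen (r x') := et x ▸ Y.basicOpen_le (t' x)
  refine trans_injective hP hℳ hD (hD.basicOpen (t x)) (Y.basicOpen_le _) (t x) rfl inf_le_right ?_
  rw [← QCoh.app_res (transMap hP ℳ n hU₀ hD h₀), ← QCoh.app_res (transMap hP ℳ n hV hD h),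
    trans_trans, trans_trans]
  have hO' : (W ⊓ p ⁻¹ᵁ D) ⊓ p ⁻¹ᵁ Y.basicOpen (t x) ≤ O x' :=
    fun y hy ↦ ⟨⟨hy.1.1, h hy.1.2⟩, hZr hy.2⟩
  refine (key x' _ (hD.basicOpen (t x)) hZr _ hO').trans (congrArg _ ?_)
  rw [← hb₀ x', ← hb₁, QCoh.res_res, QCoh.res_res]

end Extend

variable (hℳ : Coh.IsQCoh ((AMod.toOS 𝒮.toQCAlg).obj ℳ.mod))

include hℳ in
/-- A compatible family is compatible along all inclusions of affine opens. -/
lemma glamb_trans {U D : Y.Opens} (hU : IsAffineOpen U) (hD : IsAffineOpen D) (i : D ≤ U)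
    (W : P.Opens) (σ : Γ(glued hP ℳ n, W)) :
    (glamb hP ℳ n D hD).app W σ = (transMap hP ℳ n hU hD i).app W ((glamb hP ℳ n U hU).app W σ) := by
  refine res_inf_injective ?_
  choose r t e hx using fun x : (W ⊓ p ⁻¹ᵁ D : P.Opens) ↦
    exists_basicOpen_le_affine_inter hU hD (p x.1) ⟨i x.2.2, x.2.2⟩
  refine QCoh.eq_of_locally_eq _ (U := fun x ↦ (W ⊓ p ⁻¹ᵁ D) ⊓ p ⁻¹ᵁ Y.basicOpen (t x))
    (fun _ ↦ inf_le_left) (fun x hx' ↦ Opens.mem_iSup.mpr ⟨⟨x, hx'⟩, hx', e ⟨x, hx'⟩ ▸ hx ⟨x, hx'⟩⟩)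
    _ _ fun x ↦ ?_
  rw [QCoh.res_res, QCoh.res_res]
  refine trans_injective hP hℳ hD (hD.basicOpen (t x)) (Y.basicOpen_le _) (t x) rfl inf_le_right ?_
  rw [← QCoh.app_res (glamb hP ℳ n D hD), ← glamb_compat hP D hD (t x),
    ← QCoh.app_res (transMap hP ℳ n hU hD i), ← QCoh.app_res (glamb hP ℳ n U hU), trans_trans]
  have gen : ∀ (D' : Y.Opens) (hD' : IsAffineOpen D') (i' : D' ≤ U), Y.basicOpen (r x) = D' →
      ∀ (O : P.Opens) (σ' : Γ(glued hP ℳ n, O)),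
      (glamb hP ℳ n D' hD').app O σ' =
        (transMap hP ℳ n hU hD' i').app O ((glamb hP ℳ n U hU).app O σ') := by
    intro D' hD' i' eD O σ'
    subst eD
    exact glamb_compat hP U hU (r x) O σ'
  exact gen _ _ _ (e x) _ _

include hP hℳ in
/-- The module `(ℳ(n))~` exists. -/
theorem exists_isRelTilde :
    IsRelTilde 𝒮 p chart ℳ n (glued hP ℳ n) (glamb hP ℳ n) := by
  refine ⟨fun U₀ hU₀ W hW ↦ ⟨?_, fun a ↦ ?_⟩, fun U hU r W s y hy hy' ↦ ?_⟩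
  · intro s s' hss
    refine glamb_ext hP W fun V hV ↦ ?_
    have agree : ∀ (s : Γ(glued hP ℳ n, W)) (V : Y.Opens) (hV : IsAffineOpen V),
        Agree hP ((glamb hP ℳ n U₀ hU₀).app W s) V hV ((glamb hP ℳ n V hV).app W s) :=
      fun s V hV D hD h₀ h ↦ by
        rw [← glamb_trans hP hℳ hU₀ hD h₀ W s, ← glamb_trans hP hℳ hV hD h W s]
    exact Agree.unique hP _ hℳ hW (agree s V hV) (hss ▸ agree s' V hV)
  · choose b hb using exists_agree hP a hℳ hW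
    have hc : ∀ (U : Y.Opens) (hU : IsAffineOpen U) (r : Γ(Y, U)),
        (transMap hP ℳ n hU (hU.basicOpen r) (Y.basicOpen_le r)).app W (b U hU) =
          b (Y.basicOpen r) (hU.basicOpen r) := fun U hU r ↦
      Agree.unique hP a hℳ hW (Agree.map hP a (hb U hU) (hU.basicOpen r) (Y.basicOpen_le r))
        (hb (Y.basicOpen r) (hU.basicOpen r))
    obtain ⟨s, hs⟩ := exists_glamb hP W (fun V ↦ b V.1 V.2) hc
    exact ⟨s, (hs U₀ hU₀).trans (Agree.unique hP a hℳ hW (hb U₀ hU₀) (agree_self hP a))⟩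
  · rw [glamb_compat hP U hU r W s]
    exact val_trans hP hU (hU.basicOpen r) (Y.basicOpen_le r) _ y hy

end Groth.Agent.RelTildeLib
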