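import Groth.Agent.RelTildeLib.QC
import Groth.Agent.GrModLib.RelUniform
import Groth.Agent.GrModLib.TNFT
import Groth.Agent.GrModLib.RelTwistLoc
import Groth.Prelude.Def_CohB1

/-!
Finite type and vanishing of `ℳ~` on a relative Proj for modules finitely generated in high degrees.
-/

universe u

open CategoryTheory CategoryTheory.Limits AlgebraicGeometry Opposite TopologicalSpace
open scoped HomogeneousIdeal

noncomputable section

namespace Groth.Agent.RelTildeLib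

open GrModLib RelProjLib RelProj

/-- Finiteness of sections transfers along a bijection to a pushforward. -/
theorem finite_of_bijective {X Z : Scheme.{u}} (e : Z ⟶ X) [IsOpenImmersion e] {F : X.Modules}
    {T : Z.Modules} (φ : F ⟶ (Scheme.Modules.pushforward e).obj T) {A : X.Opens}
    (hA : A ≤ e.opensRange) (hbij : Function.Bijective (φ.app A))
    (hfin : Module.Finite Γ(Z, e ⁻¹ᵁ A) Γ(T, e ⁻¹ᵁ A)) : Module.Finite Γ(X, A) Γ(F, A) := by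
  have := e.isIso_app A hA
  obtain ⟨S, hS⟩ := hfin.fg_top
  choose g hg using fun s : S ↦ hbij.2 (s : Γ(T, e ⁻¹ᵁ A))
  refine ⟨Submodule.fg_def.mpr ⟨Set.range g, Set.finite_range g, eq_top_iff.mpr fun t _ ↦ ?_⟩⟩
  suffices H : ∀ z ∈ Submodule.span Γ(Z, e ⁻¹ᵁ A) (S : Set Γ(T, e ⁻¹ᵁ A)),
      ∃ t' ∈ Submodule.span Γ(X, A) (Set.range g), φ.app A t' = z by
    obtain ⟨t', ht', ht''⟩ := H (φ.app A t) (hS ▸ Submodule.mem_top)
    exact hbij.1 ht'' ▸ ht'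
  intro z hz
  induction hz using Submodule.span_induction with
  | mem z hz => exact ⟨g ⟨z, hz⟩, Submodule.subset_span ⟨_, rfl⟩, hg ⟨z, hz⟩⟩
  | zero => exact ⟨0, zero_mem _, map_zero _⟩
  | add a b _ _ ha hb =>
    obtain ⟨a', ha', rfl⟩ := ha
    obtain ⟨b', hb', rfl⟩ := hb
    exact ⟨a' + b', add_mem ha' hb', map_add _ _ _⟩
  | smul c a _ ha =>
    obtain ⟨a', ha', rfl⟩ := ha
    obtain ⟨c', rfl⟩ := (ConcreteCategory.bijective_of_isIso (e.app A)).2 c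
    refine ⟨c' • a', Submodule.smul_mem _ _ ha', ?_⟩
    rw [Scheme.Modules.Hom.app_smul]
    exact QCoh.push_smul e T c' _

variable {Y P : Scheme.{u}} {𝒮 : QCGrAlg Y} {p : P ⟶ Y}
  {chart : ∀ (U : Y.Opens) (hU : IsAffineOpen U), (((p ⁻¹ᵁ U : P.Opens) : Scheme.{u}) ≅ Proj (𝒮.deg U hU))}
  {ℳ : GrModule 𝒮} {F : P.Modules}
  {lam : ∀ (U : Y.Opens) (hU : IsAffineOpen U),
    F ⟶ (Scheme.Modules.pushforward (emb p chart U hU)).obj (GrMod.tilde (𝒮.deg U hU) (ℳ.deg U hU) 0)}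

/-- `ℳ~` is of finite type. -/
theorem isFT (hgen : 𝒮.IsGenDegOne) (hTF : ℳ.IsTF) (hF : IsRelTilde 𝒮 p chart ℳ 0 F lam) :
    CohB1.IsFT F := by
  have := isQuasicoherent hF
  refine QCoh.isFiniteType_of_forall_exists F fun x ↦ ?_
  obtain ⟨U, hU, hxU, -⟩ := Y.isBasis_affineOpens.exists_subset_of_mem_open
    (Set.mem_univ (p x)) isOpen_univ
  obtain ⟨U, hU, rfl⟩ := hU
  obtain ⟨y, rfl⟩ := exists_emb_eq (chart := chart) U hU (x := x) hxU
  obtain ⟨f, hf, hfy⟩ := exists_degree_one_of_closure _ (hgen U hU)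
    (show ProjectiveSpectrum (𝒮.deg U hU) from y)
  obtain ⟨N, hN⟩ := hTF
  have hA : IsAffineOpen (Proj.basicOpen (𝒮.deg U hU) f) :=
    Proj.isAffineOpen_basicOpen _ f hf one_pos
  let e := emb p chart U hU
  have hfin := finite_sections_of_TF (𝒜 := 𝒮.deg U hU) (ℳ := ℳ.deg U hU) hf (hN U hU)
  refine ⟨e ''ᵁ Proj.basicOpen (𝒮.deg U hU) f, hA.image_of_isOpenImmersion e, ⟨y, hfy, rfl⟩,
    finite_of_bijective e (lam U hU) (e.image_le_opensRange _) (hF.bijective U hU _ ?_) ?_⟩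
  · rintro _ ⟨z, -, rfl⟩
    exact emb_mem U hU z
  · rw [e.preimage_image_eq]
    exact hfin

set_option maxHeartbeats 800000 in
/-- With `ℳ~ = 0` there are no sections on the charts. -/
theorem sect_eq_zero_of_isZero (hF : IsRelTilde 𝒮 p chart ℳ 0 F lam) (h0 : IsZero F)
    (U : Y.Opens) (hU : IsAffineOpen U) (V : (Proj (𝒮.deg U hU)).Opens)
    (s : GrMod.sect (𝒮.deg U hU) (ℳ.deg U hU) 0 (op V)) : s = 0 := by
  have hW : emb p chart U hU ''ᵁ V ≤ p ⁻¹ᵁ U := by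
    rintro _ ⟨z, -, rfl⟩
    exact emb_mem U hU z
  have hle : V ≤ pre p chart U hU (emb p chart U hU ''ᵁ V) :=
    ((emb p chart U hU).preimage_image_eq V).ge
  have hle' : pre p chart U hU (emb p chart U hU ''ᵁ V) ≤ V :=
    ((emb p chart U hU).preimage_image_eq V).le
  obtain ⟨a, ha⟩ := (hF.bijective U hU _ hW).2
    (GrMod.res (𝒮.deg U hU) (ℳ.deg U hU) 0 (homOfLE hle').op s)
  have ha0 : a = 0 := congr(($((IsZero.iff_id_eq_zero F).mp h0)).app _ a)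
  rw [ha0, map_zero] at ha
  refine sect_ext fun z hz ↦ ?_
  exact (congrArg (fun t : GrMod.sect (𝒮.deg U hU) (ℳ.deg U hU) 0
    (op (pre p chart U hU (emb p chart U hU ''ᵁ V))) ↦ valAt t z (hle hz)) ha).symm

/-- Over each affine open, `ℳ~ = 0` kills the high degrees. -/
theorem exists_TN_affine (hgen : 𝒮.IsGenDegOne) (hft : 𝒮.IsFTDeg 1) (hTF : ℳ.IsTF)
    (hF : IsRelTilde 𝒮 p chart ℳ 0 F lam) (h0 : IsZero F) (U : Y.Opens) (hU : IsAffineOpen U) :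
    ∃ K, ∀ k, K ≤ k → ∀ m ∈ ℳ.deg U hU k, m = 0 := by
  obtain ⟨N, hN⟩ := hTF
  obtain ⟨T₁, hT₁, hspan⟩ := hft U hU
  refine exists_TN_of_sections_zero (𝒜 := 𝒮.deg U hU) (hgen U hU) (T₁ := T₁) (fun t ht ↦ hT₁ ht)
    (fun a ha ↦ ?_) (hN U hU) fun f _ s ↦ ?_
  · obtain ⟨c, hc⟩ := hspan a ha
    rw [hc]
    exact Ideal.sum_mem _ fun t ht ↦ Ideal.mul_mem_left _ _ (Ideal.subset_span ht)
  · exact sect_eq_zero_of_isZero hF h0 U hU (dPlus (𝒮.deg U hU) f) s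

/-- Over a quasi-compact base, `ℳ~ = 0` kills the high degrees. -/
theorem isTN [CompactSpace Y] (hℳ : Coh.IsQCoh ((AMod.toOS 𝒮.toQCAlg).obj ℳ.mod))
    (hgen : 𝒮.IsGenDegOne) (hft : 𝒮.IsFTDeg 1) (hTF : ℳ.IsTF)
    (hF : IsRelTilde 𝒮 p chart ℳ 0 F lam) (h0 : IsZero F) : ℳ.IsTN := by
  choose K hK using exists_TN_affine hgen hft hTF hF h0
  obtain ⟨t, ht⟩ := isCompact_univ.elim_finite_subcover (fun U : Y.affineOpens ↦ (U.1 : Set Y))
    (fun U ↦ U.1.2) fun x _ ↦ by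
      obtain ⟨U, hU, hxU, -⟩ := Y.isBasis_affineOpens.exists_subset_of_mem_open
        (Set.mem_univ x) isOpen_univ
      obtain ⟨V, hV, rfl⟩ := hU
      exact Set.mem_iUnion.mpr ⟨⟨V, hV⟩, hxU⟩
  refine ⟨t.sup fun U ↦ K U.1 U.2, fun U hU k hk m hm ↦ ?_⟩
  have H : ∀ x : U, ∃ V : Y.affineOpens, V ∈ t ∧ x.1 ∈ V.1 := fun x ↦ by
    obtain ⟨V, hV, hx⟩ := Set.mem_iUnion₂.mp (ht (Set.mem_univ x.1))
    exact ⟨V, hV, hx⟩
  choose V hVt hxV using H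
  choose r s e hx using fun x : U ↦ exists_basicOpen_le_affine_inter hU (V x).2 x.1 ⟨x.2, hxV x⟩
  refine QCoh.eq_zero_of_locally_eq_zero ((AMod.toOS 𝒮.toQCAlg).obj ℳ.mod)
    (fun x : U ↦ Y.basicOpen_le (r x)) (fun x hx' ↦ Opens.mem_iSup.mpr ⟨⟨x, hx'⟩, hx ⟨x, hx'⟩⟩) m fun x ↦ ?_
  have hDV : Y.basicOpen (r x) ≤ (V x).1 := e x ▸ Y.basicOpen_le (s x)
  have hA := isAwayMap_res hℳ (V x).2 (hU.basicOpen (r x)) (s x) (e x).symm hDV
  obtain ⟨a, m', hm', hma⟩ := hA.surj k _ (ℳ.res_mem hU (hU.basicOpen (r x)) (Y.basicOpen_le _) k m hm)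
  rw [hK (V x).1 (V x).2 k ((Finset.le_sup (f := fun U : Y.affineOpens ↦ K U.1 U.2) (hVt x)).trans hk)
    m' hm', map_zero] at hma
  have hz : ℳ.res hU (hU.basicOpen (r x)) (Y.basicOpen_le _) m = 0 :=
    (hA.isUnit.pow a).smul_eq_zero.mp hma
  exact hz

end Groth.Agent.RelTildeLib
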