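import Groth.Agent.RelTildeLib.Basic
import Groth.Agent.GrModLib.QC
import Groth.Agent.Props.GenLocus

/-!
Sections of twisting sheaves with invertible values are generators.
-/

universe u

open CategoryTheory CategoryTheory.Limits AlgebraicGeometry Opposite TopologicalSpace
open scoped HomogeneousIdeal

noncomputable section

namespace Groth.Agent.RelTildeLib

open GrModLib RelProj Props.GenLocus

section Ring

variable {A σ : Type u} [CommRing A] [SetLike σ A] [AddSubgroupClass σ A] {𝒜 : ℕ → σ} [GradedRing 𝒜]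

lemma isUnit_mk_iff {x : ProjectiveSpectrum 𝒜} (a : A)
    (s : x.asHomogeneousIdeal.toIdeal.primeCompl) :
    IsUnit (Localization.mk a s : GrTwist.Loc 𝒜 x) ↔ a ∉ x.asHomogeneousIdeal := by
  rw [Localization.mk_eq_mk', IsLocalization.AtPrime.isUnit_mk'_iff (GrTwist.Loc 𝒜 x)
    x.asHomogeneousIdeal.toIdeal]
  rfl

variable {n : ℤ}

/-- The section `a / s` of `O(n)`. -/
def fracT {V : (Proj 𝒜).Opens} {i j : ℕ} {a s : A} (ha : a ∈ 𝒜 i) (hs : s ∈ 𝒜 j)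
    (h : (i : ℤ) = j + n)
    (hV : ∀ x : ProjectiveSpectrum 𝒜, x ∈ V → s ∉ x.asHomogeneousIdeal) :
    Γ(GrTwist.twist 𝒜 n, V) :=
  show GrTwist.sectN (𝒜 := 𝒜) n (op V) from
  ⟨fun x ↦ ⟨Localization.mk a ⟨s, hV x.1 x.2⟩,
      Submodule.subset_span ⟨i, j, ⟨a, ha⟩, ⟨s, hs⟩, _, h, rfl⟩⟩,
    fun x ↦ ⟨V, x.2, 𝟙 _, i, j, ⟨a, ha⟩, ⟨s, hs⟩, fun y ↦ hV y.1 y.2, Or.inl h, fun _ ↦ rfl⟩⟩

lemma val_fracT {V : (Proj 𝒜).Opens} {i j : ℕ} {a s : A} (ha : a ∈ 𝒜 i) (hs : s ∈ 𝒜 j)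
    (h : (i : ℤ) = j + n)
    (hV : ∀ x : ProjectiveSpectrum 𝒜, x ∈ V → s ∉ x.asHomogeneousIdeal)
    (x : ProjectiveSpectrum 𝒜) (hx : x ∈ V) :
    GrTwist.val (fracT ha hs h hV) ⟨x, hx⟩ = Localization.mk a ⟨s, hV x hx⟩ := rfl

lemma twist_ext {V : (Proj 𝒜).Opens} {t t' : Γ(GrTwist.twist 𝒜 n, V)}
    (h : ∀ x : V, GrTwist.val t x = GrTwist.val t' x) : t = t' :=
  Subtype.ext (funext fun x ↦ Subtype.ext (h x))

lemma val_smulT {V : (Proj 𝒜).Opens} (c : Γ(Proj 𝒜, V)) (t : Γ(GrTwist.twist 𝒜 n, V)) (x : V) :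
    GrTwist.val (c • t) x = funVal c x.1 x.2 * GrTwist.val t x :=
  GrTwist.coe_smul_val n x.1 _ _

lemma exists_fracT {V : (Proj 𝒜).Opens} (t : Γ(GrTwist.twist 𝒜 n, V)) (x : V) :
    ∃ (V' : (Proj 𝒜).Opens) (hle : V' ≤ V) (_ : x.1 ∈ V') (i j : ℕ) (a : 𝒜 i) (s : 𝒜 j)
      (hs : ∀ y : V', (s : A) ∉ (show ProjectiveSpectrum 𝒜 from y.1).asHomogeneousIdeal),
      ((i : ℤ) = j + n ∨ (a : A) = 0) ∧
        ∀ y : V', GrTwist.val t ⟨y.1, hle y.2⟩ = Localization.mk (a : A) ⟨(s : A), hs y⟩ := by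
  obtain ⟨V', hx, iV, i, j, a, s, hs, hd, w⟩ := (show GrTwist.sectN (𝒜 := 𝒜) n (op V) from t).2 x
  exact ⟨V', iV.le, hx, i, j, a, s, hs, hd, w⟩

/-- A section of `O(n)` with invertible values divides every section. -/
theorem exists_smul_eq_of_isUnit {V : (Proj 𝒜).Opens} (e : Γ(GrTwist.twist 𝒜 n, V))
    (he : ∀ x : V, IsUnit (GrTwist.val e x)) (t : Γ(GrTwist.twist 𝒜 n, V)) :
    ∃ c : Γ(Proj 𝒜, V), c • e = t := by
  have H : ∀ x : V, ∃ (V' : (Proj 𝒜).Opens) (hle : V' ≤ V) (_ : x.1 ∈ V') (k : ℕ) (a s : 𝒜 k)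
      (hs : ∀ y : V', (s : A) ∉ (show ProjectiveSpectrum 𝒜 from y.1).asHomogeneousIdeal),
      ∀ y : V', Localization.mk (a : A) ⟨(s : A), hs y⟩ * GrTwist.val e ⟨y.1, hle y.2⟩ =
        GrTwist.val t ⟨y.1, hle y.2⟩ := by
    intro x
    obtain ⟨V₁, h₁, hx₁, i, j, ⟨m, hm⟩, ⟨s, hs'⟩, hs, hd, w⟩ := exists_fracT e x
    obtain ⟨V₂, h₂, hx₂, i', j', ⟨m', hm'⟩, ⟨s', hs''⟩, hs₂, hd', w'⟩ := exists_fracT t x
    have hmx : m ∉ (show ProjectiveSpectrum 𝒜 from x.1).asHomogeneousIdeal :=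
      (isUnit_mk_iff m ⟨s, hs ⟨x.1, hx₁⟩⟩).mp (w ⟨x.1, hx₁⟩ ▸ he x)
    have hij : (i : ℤ) = j + n := hd.resolve_right fun h ↦
      hmx ((show m = 0 from h) ▸ zero_mem _)
    let V' : (Proj 𝒜).Opens := V₁ ⊓ V₂ ⊓ Proj.basicOpen 𝒜 m
    have hle : V' ≤ V := inf_le_left.trans (inf_le_left.trans h₁)
    have hnin : ∀ y : V', s' * m ∉ (show ProjectiveSpectrum 𝒜 from y.1).asHomogeneousIdeal :=
      fun y h ↦ ((show ProjectiveSpectrum 𝒜 from y.1).isPrime.mem_or_mem h).elim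
        (hs₂ ⟨y.1, y.2.1.2⟩) ((Proj.mem_basicOpen 𝒜 m y.1).mp y.2.2)
    have hden : s' * m ∈ 𝒜 (j' + i) := SetLike.mul_mem_graded hs'' hm
    have hnum : m' * s ∈ 𝒜 (j' + i) := by
      rcases hd' with h' | h'
      · have e1 : i' + j = j' + i := by omega
        exact e1 ▸ SetLike.mul_mem_graded hm' hs'
      · rw [show m' = 0 from h', zero_mul]
        exact zero_mem _
    refine ⟨V', hle, ⟨⟨hx₁, hx₂⟩, (Proj.mem_basicOpen 𝒜 m x.1).mpr hmx⟩, j' + i, ⟨_, hnum⟩,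
      ⟨_, hden⟩, hnin, fun y ↦ ?_⟩
    rw [show GrTwist.val e ⟨y.1, hle y.2⟩ = _ from w ⟨y.1, y.2.1.1⟩,
      show GrTwist.val t ⟨y.1, hle y.2⟩ = _ from w' ⟨y.1, y.2.1.2⟩, Localization.mk_mul,
      Localization.mk_eq_mk_iff, Localization.r_iff_exists]
    exact ⟨1, by simp only [Submonoid.coe_mul]; ring⟩
  choose V' hle hx k a s hs w using H
  let c : ∀ x : V, GrTwist.A0 𝒜 x.1 := fun x ↦
    HomogeneousLocalization.mk ⟨k x, a x, s x, hs x ⟨x.1, hx x⟩⟩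
  have hc : ∀ x : V, (c x).val * GrTwist.val e x = GrTwist.val t x := fun x ↦ by
    have := (show ProjectiveSpectrum 𝒜 from x.1).isPrime
    rw [HomogeneousLocalization.val_mk]
    exact w x ⟨x.1, hx x⟩
  have hp : (ProjectiveSpectrum.StructureSheaf.isLocallyFraction 𝒜).pred c := fun x ↦ by
    refine ⟨V' x, hx x, homOfLE (hle x), k x, a x, s x, hs x, fun y ↦ ?_⟩
    refine HomogeneousLocalization.val_injective _
      ((he ⟨y.1, hle x y.2⟩).mul_right_cancel ((hc ⟨y.1, hle x y.2⟩).trans ?_))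
    have := (show ProjectiveSpectrum 𝒜 from y.1).isPrime
    refine ((w x y).symm.trans ?_)
    rw [HomogeneousLocalization.val_mk]
  refine ⟨show GrTwist.O (𝒜 := 𝒜) (op V) from
    (⟨c, hp⟩ : ProjectiveSpectrum.StructureSheaf.sectionsSubring (op V)), twist_ext fun x ↦ ?_⟩
  exact (val_smulT _ e x).trans (hc x)

/-- A section of `O(n)` with invertible values is a generator. -/
theorem bijective_smul_of_isUnit {V : (Proj 𝒜).Opens} (e : Γ(GrTwist.twist 𝒜 n, V))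
    (he : ∀ x : V, IsUnit (GrTwist.val e x)) :
    Function.Bijective fun c : Γ(Proj 𝒜, V) ↦ c • e := by
  refine ⟨fun c d h ↦ funVal_ext fun x hx ↦ (he ⟨x, hx⟩).mul_right_cancel ?_, fun t ↦ ?_⟩
  · exact (val_smulT c e ⟨x, hx⟩).symm.trans
      ((congrArg (fun q ↦ GrTwist.val q ⟨x, hx⟩) h).trans (val_smulT d e ⟨x, hx⟩))
  · exact exists_smul_eq_of_isUnit e he t

end Ring

variable {Y P : Scheme.{u}} {𝒮 : QCGrAlg Y} {p : P ⟶ Y}
  {chart : ∀ (U : Y.Opens) (hU : IsAffineOpen U), (((p ⁻¹ᵁ U : P.Opens) : Scheme.{u}) ≅ Proj (𝒮.deg U hU))}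
  {n : ℤ} {L : P.Modules}
  {lam : ∀ (U : Y.Opens) (hU : IsAffineOpen U),
    L ⟶ (Scheme.Modules.pushforward (emb p chart U hU)).obj (GrTwist.twist (𝒮.deg U hU) n)}

/-- The value on a chart of a section of a relative twist. -/
abbrev tv (lam : ∀ (U : Y.Opens) (hU : IsAffineOpen U),
      L ⟶ (Scheme.Modules.pushforward (emb p chart U hU)).obj (GrTwist.twist (𝒮.deg U hU) n))
    (U : Y.Opens) (hU : IsAffineOpen U) {W : P.Opens} (e : Γ(L, W))
    (y : ProjectiveSpectrum (𝒮.deg U hU)) (hy : (emb p chart U hU).base y ∈ W) :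
    GrTwist.Loc (𝒮.deg U hU) y :=
  GrTwist.val (V := pre p chart U hU W) ((lam U hU).app W e) ⟨y, hy⟩

/-- The value on a chart of a function. -/
abbrev fv (p : P ⟶ Y)
    (chart : ∀ (U : Y.Opens) (hU : IsAffineOpen U), (((p ⁻¹ᵁ U : P.Opens) : Scheme.{u}) ≅ Proj (𝒮.deg U hU)))
    (U : Y.Opens) (hU : IsAffineOpen U) {W : P.Opens} (c : Γ(P, W))
    (y : ProjectiveSpectrum (𝒮.deg U hU)) (hy : (emb p chart U hU).base y ∈ W) :
    GrTwist.Loc (𝒮.deg U hU) y :=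
  funVal ((emb p chart U hU).app W c) y hy

lemma tv_res (U : Y.Opens) (hU : IsAffineOpen U) {W W' : P.Opens} (hle : W' ≤ W) (e : Γ(L, W))
    (y : ProjectiveSpectrum (𝒮.deg U hU)) (hy : (emb p chart U hU).base y ∈ W') :
    tv lam U hU (QCoh.res L hle e) y hy = tv lam U hU e y (hle hy) :=
  congrArg (fun t ↦ GrTwist.val (V := pre p chart U hU W') t ⟨y, hy⟩)
    (QCoh.app_res (lam U hU) hle e)

lemma tv_smul (U : Y.Opens) (hU : IsAffineOpen U) {W : P.Opens} (c : Γ(P, W)) (e : Γ(L, W))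
    (y : ProjectiveSpectrum (𝒮.deg U hU)) (hy : (emb p chart U hU).base y ∈ W) :
    tv lam U hU (c • e) y hy = fv p chart U hU c y hy * tv lam U hU e y hy :=
  (congrArg (fun t ↦ GrTwist.val (V := pre p chart U hU W) t ⟨y, hy⟩)
    (Scheme.Modules.Hom.app_smul (lam U hU) c e)).trans (val_smulT _ _ _)

lemma emb_app_bijective (U : Y.Opens) (hU : IsAffineOpen U) {V : P.Opens} (hV : V ≤ p ⁻¹ᵁ U) :
    Function.Bijective ((emb p chart U hU).app V) := by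
  have : IsIso ((emb p chart U hU).app V) :=
    Scheme.Hom.isIso_app _ V (hV.trans (RelProjLib.emb_opensRange (chart := chart) U hU).ge)
  exact ConcreteCategory.bijective_of_isIso _

/-- On a chart, sections with invertible values generate. -/
theorem isGen_of_isUnit_chart (hL : IsRelTwist 𝒮 p chart n L lam) {U : Y.Opens} (hU : IsAffineOpen U)
    {W : P.Opens} (hW : W ≤ p ⁻¹ᵁ U) (e : Γ(L, W))
    (he : ∀ y hy, IsUnit (tv lam U hU e y hy)) : IsGen L W e := by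
  intro V hV
  let e₀ : Γ(GrTwist.twist (𝒮.deg U hU) n, pre p chart U hU V) :=
    (lam U hU).app V (QCoh.res L hV e)
  have hb : Function.Bijective fun c : Γ(Proj (𝒮.deg U hU), pre p chart U hU V) ↦ c • e₀ :=
    bijective_smul_of_isUnit e₀ fun x ↦ by
      have h := tv_res (lam := lam) U hU hV e x.1 x.2
      exact (congrArg IsUnit h).mpr (he x.1 (hV x.2))
  refine (Function.Bijective.of_comp_iff' (hL.bijective U hU V (hV.trans hW)) _).mp ?_
  have h2 := hb.comp (emb_app_bijective (chart := chart) U hU (hV.trans hW))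
  have key : ⇑((lam U hU).app V) ∘ sm e hV =
      (fun c : Γ(Proj (𝒮.deg U hU), pre p chart U hU V) ↦ c • e₀) ∘
        ⇑((emb p chart U hU).app V) :=
    funext fun c ↦ Scheme.Modules.Hom.app_smul (lam U hU) c _
  exact key ▸ h2

/-- Sections with invertible values generate. -/
theorem isGen_of_isUnit (hL : IsRelTwist 𝒮 p chart n L lam) {W : P.Opens} (e : Γ(L, W))
    (he : ∀ x ∈ W, ∃ (U : Y.Opens) (hU : IsAffineOpen U) (W' : P.Opens) (hle : W' ≤ W),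
      x ∈ W' ∧ W' ≤ p ⁻¹ᵁ U ∧ ∀ y (hy : (emb p chart U hU).base y ∈ W'),
        IsUnit (tv lam U hU e y (hle hy))) : IsGen L W e := by
  refine IsGen.of_local fun x hx ↦ ?_
  obtain ⟨U, hU, W', hle, hxW', hW', h⟩ := he x hx
  exact ⟨W', hle, hxW', isGen_of_isUnit_chart hL hU hW' _ fun y hy ↦ by
    rw [tv_res]
    exact h y hy⟩

/-- A generator has invertible values where some section has. -/
theorem isUnit_tv_of_isGen {W : P.Opens} {e : Γ(L, W)} (hg : IsGen L W e) {U : Y.Opens}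
    {hU : IsAffineOpen U} {W' : P.Opens} (hle : W' ≤ W) (e' : Γ(L, W'))
    (y : ProjectiveSpectrum (𝒮.deg U hU)) (hy : (emb p chart U hU).base y ∈ W')
    (he' : IsUnit (tv lam U hU e' y hy)) : IsUnit (tv lam U hU e y (hle hy)) := by
  obtain ⟨c, rfl, -⟩ := hg.exists_eq hle e'
  rw [tv_smul, tv_res] at he'
  exact (IsUnit.mul_iff.mp he').2

/-- Invertible values descend to the chart of a basic open. -/
lemma tv_basic (hL : IsRelTwist 𝒮 p chart n L lam) (hP : IsRelProj 𝒮 p chart) {U D : Y.Opens}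
    (hU : IsAffineOpen U) (hD : IsAffineOpen D) (i : D ≤ U) (r : Γ(Y, U)) (e : Y.basicOpen r = D)
    {W : P.Opens} (s : Γ(L, W)) (y : ProjectiveSpectrum (𝒮.deg D hD))
    (hy : (emb p chart D hD).base y ∈ W) :
    ∃ (hψ : (𝒮.deg D hD)₊ ≤ ((𝒮.deg U hU)₊).map (𝒮.res hU hD i))
      (hy' : (emb p chart U hU).base (ProjectiveSpectrum.comap (𝒮.res hU hD i) hψ y) ∈ W),
      tv lam D hD s y hy = GrTwist.locMap (𝒮.res hU hD i) hψ y (tv lam U hU s _ hy') := by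
  subst e
  exact ⟨𝒮.irrelevant_le_map U hU r, hy'_of hP U hU r y hy,
    hL.compat U hU r W s y hy (hy'_of hP U hU r y hy)⟩

end Groth.Agent.RelTildeLib
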