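import Groth.Agent.RelTildeLib.Existence

/-!
Morphisms of modules `(ℳ(n))~ ⟶ h_* (𝒩(n))~` over a morphism of relative Proj's.
-/

universe u

open CategoryTheory CategoryTheory.Limits AlgebraicGeometry Opposite TopologicalSpace
open scoped HomogeneousIdeal

noncomputable section

namespace Groth.Agent.RelTildeLib

open GrModLib RelProjLib RelProj

/-- A commutative square of semilinear maps gives a commutative square of maps of localized modules. -/
theorem locModMap_square {A A' B B' σA σA' σB σB' : Type u} [CommRing A] [SetLike σA A]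
    [AddSubgroupClass σA A] {𝒜 : ℕ → σA} [GradedRing 𝒜] [CommRing A'] [SetLike σA' A']
    [AddSubgroupClass σA' A'] {𝒜' : ℕ → σA'} [GradedRing 𝒜'] [CommRing B] [SetLike σB B]
    [AddSubgroupClass σB B] {ℬ : ℕ → σB} [GradedRing ℬ] [CommRing B'] [SetLike σB' B']
    [AddSubgroupClass σB' B'] {ℬ' : ℕ → σB'} [GradedRing ℬ']
    {M M' N N' : Type u} [AddCommGroup M] [Module A M] [AddCommGroup M'] [Module A' M']
    [AddCommGroup N] [Module B N] [AddCommGroup N'] [Module B' N']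
    (φ : 𝒜 →+*ᵍ ℬ) (hφ : ℬ₊ ≤ (𝒜₊).map φ) (φ' : 𝒜' →+*ᵍ ℬ') (hφ' : ℬ'₊ ≤ (𝒜'₊).map φ')
    (ψA : 𝒜 →+*ᵍ 𝒜') (hψA : 𝒜'₊ ≤ (𝒜₊).map ψA) (ψB : ℬ →+*ᵍ ℬ') (hψB : ℬ'₊ ≤ (ℬ₊).map ψB)
    (hsq : ∀ a, φ' (ψA a) = ψB (φ a))
    (v : M →ₛₗ[φ.toRingHom] N) (v' : M' →ₛₗ[φ'.toRingHom] N')
    (rA : M →ₛₗ[ψA.toRingHom] M') (rB : N →ₛₗ[ψB.toRingHom] N')
    (hv : ∀ m, v' (rA m) = rB (v m)) (y : ProjectiveSpectrum ℬ')
    (Pr : ProjectiveSpectrum 𝒜 → Prop) (val : ∀ x, Pr x → GrMod.LocMod 𝒜 (M := M) x)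
    (h₁ : Pr (ProjectiveSpectrum.comap ψA hψA (ProjectiveSpectrum.comap φ' hφ' y)))
    (h₂ : Pr (ProjectiveSpectrum.comap φ hφ (ProjectiveSpectrum.comap ψB hψB y))) :
    GrMod.locModMap φ' hφ' v' y (GrMod.locModMap ψA hψA rA _ (val _ h₁)) =
      GrMod.locModMap ψB hψB rB y (GrMod.locModMap φ hφ v _ (val _ h₂)) := by
  have hx : ProjectiveSpectrum.comap φ hφ (ProjectiveSpectrum.comap ψB hψB y) =
      ProjectiveSpectrum.comap ψA hψA (ProjectiveSpectrum.comap φ' hφ' y) := by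
    refine ProjectiveSpectrum.ext (HomogeneousIdeal.ext (SetLike.ext fun b ↦ ?_))
    change ψB (φ b) ∈ y.asHomogeneousIdeal ↔ φ' (ψA b) ∈ y.asHomogeneousIdeal
    rw [hsq b]
  obtain ⟨⟨m, g⟩, hmg⟩ : ∃ q : M × _, LocalizedModule.mk q.1 q.2 = val _ h₁ :=
    LocalizedModule.induction_on (fun m s ↦ ⟨(m, s), rfl⟩) (val _ h₁)
  have gen : ∀ x (_ : x = ProjectiveSpectrum.comap ψA hψA (ProjectiveSpectrum.comap φ' hφ' y))
      (hx' : Pr x), ∃ hg : (g : A) ∉ x.asHomogeneousIdeal,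
        val x hx' = LocalizedModule.mk m (⟨g, hg⟩ : x.asHomogeneousIdeal.toIdeal.primeCompl) := by
    intro x e hx'
    subst e
    exact ⟨g.2, hmg.symm⟩
  obtain ⟨hg, hval⟩ := gen _ hx h₂
  rw [hval, ← hmg, GrMod.locModMap_mk, GrMod.locModMap_mk, GrMod.locModMap_mk, GrMod.locModMap_mk]
  exact congrArg₂ LocalizedModule.mk (hv m) (Subtype.ext (hsq g))

/-- Compatibility from equalities of morphisms. -/
theorem compat_of_eq_trans {Y P : Scheme.{u}} {𝒮 : QCGrAlg Y} {p : P ⟶ Y}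
    {chart : ∀ (U : Y.Opens) (hU : IsAffineOpen U), (((p ⁻¹ᵁ U : P.Opens) : Scheme.{u}) ≅ Proj (𝒮.deg U hU))}
    (hP : IsRelProj 𝒮 p chart) {ℳ : GrModule 𝒮} {n : ℤ} {F : P.Modules}
    {θ : ∀ (U : Y.Opens) (hU : IsAffineOpen U), F ⟶ chartMod ℳ n p chart U hU}
    (h : ∀ (U : Y.Opens) (hU : IsAffineOpen U) (r : Γ(Y, U)), θ (Y.basicOpen r) (hU.basicOpen r) =
      θ U hU ≫ transMap hP ℳ n hU (hU.basicOpen r) (Y.basicOpen_le r)) : Compat ℳ n θ := by
  intro U hU r W s y hy hy'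
  have e : (θ (Y.basicOpen r) (hU.basicOpen r)).app W s =
      (transMap hP ℳ n hU (hU.basicOpen r) (Y.basicOpen_le r)).app W ((θ U hU).app W s) :=
    congr(($(h U hU r)).app W s)
  exact (congrArg (fun a : Γ(chartMod ℳ n p chart (Y.basicOpen r) (hU.basicOpen r), W) ↦
    GrMod.val (V := pre p chart (Y.basicOpen r) (hU.basicOpen r) W) a ⟨y, hy⟩) e).trans
    (val_trans hP hU (hU.basicOpen r) (Y.basicOpen_le r) ((θ U hU).app W s) y hy)

variable {Y PA PB : Scheme.{u}} {𝒜 ℬ : RelProj.QCGrAlg Y}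
    (φ : 𝒜.toQCAlg ⟶ ℬ.toQCAlg) (hφ : RelProj.IsGradedHom φ)
    (hirr : ∀ (U : Y.Opens) (hU : IsAffineOpen U),
      (ℬ.deg U hU)₊ ≤ ((𝒜.deg U hU)₊).map (RelProj.gradedHomAt φ hφ U hU))
    {pA : PA ⟶ Y} {pB : PB ⟶ Y}
    (chartA : ∀ (U : Y.Opens) (hU : IsAffineOpen U), (((pA ⁻¹ᵁ U : PA.Opens) : Scheme.{u}) ≅ Proj (𝒜.deg U hU)))
    (chartB : ∀ (U : Y.Opens) (hU : IsAffineOpen U), (((pB ⁻¹ᵁ U : PB.Opens) : Scheme.{u}) ≅ Proj (ℬ.deg U hU)))
    {h : PB ⟶ PA} (hh : RelProj.IsRelProjMap φ hφ hirr chartA chartB h)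
    {ℳ : GrModule 𝒜} {𝒩 : GrModule ℬ}
    (v : ∀ (U : Y.Opens) (hU : IsAffineOpen U),
      ℳ.mod.val.obj (op U) →ₛₗ[(gradedHomAt φ hφ U hU).toRingHom] 𝒩.mod.val.obj (op U))
    (hv : ∀ (U : Y.Opens) (hU : IsAffineOpen U) (i : ℕ) (m : ℳ.mod.val.obj (op U)),
      m ∈ ℳ.deg U hU i → v U hU m ∈ 𝒩.deg U hU i)
    (hnat : ∀ (U : Y.Opens) (hU : IsAffineOpen U) (r : Γ(Y, U)) (m : ℳ.mod.val.obj (op U)),
      v (Y.basicOpen r) (hU.basicOpen r) (ℳ.res hU (hU.basicOpen r) (Y.basicOpen_le r) m) =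
        𝒩.res hU (hU.basicOpen r) (Y.basicOpen_le r) (v U hU m))
    (n : ℤ)

include hh in
lemma map_emb (U : Y.Opens) (hU : IsAffineOpen U) :
    Proj.map (gradedHomAt φ hφ U hU) (hirr U hU) ≫ emb pA chartA U hU = emb pB chartB U hU ≫ h := by
  rw [emb, emb, Category.assoc, hh U hU, Iso.inv_hom_id_assoc]

include hh in
lemma mem_comap (U : Y.Opens) (hU : IsAffineOpen U) {W : PA.Opens}
    (y : ProjectiveSpectrum (ℬ.deg U hU)) (hy : (emb pB chartB U hU).base y ∈ h ⁻¹ᵁ W) :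
    (emb pA chartA U hU).base
      (ProjectiveSpectrum.comap (gradedHomAt φ hφ U hU) (hirr U hU) y) ∈ W := by
  have e : (emb pA chartA U hU).base (ProjectiveSpectrum.comap (gradedHomAt φ hφ U hU) (hirr U hU) y) =
      h.base ((emb pB chartB U hU).base y) :=
    congr(($(map_emb φ hφ hirr chartA chartB hh U hU)).base y)
  rw [e]
  exact hy

variable {F : PA.Modules}
    (lam : ∀ (U : Y.Opens) (hU : IsAffineOpen U), F ⟶ chartMod ℳ n pA chartA U hU)

/-- The component over an affine open of the base. -/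
def component (U : Y.Opens) (hU : IsAffineOpen U) :
    F ⟶ (Scheme.Modules.pushforward h).obj (chartMod 𝒩 n pB chartB U hU) :=
  lam U hU ≫
    (Scheme.Modules.pushforward (emb pA chartA U hU)).map
      (GrMod.comap (gradedHomAt φ hφ U hU) (hirr U hU) (v U hU) (hv U hU) n) ≫
    (Scheme.Modules.pushforwardComp (Proj.map (gradedHomAt φ hφ U hU) (hirr U hU))
      (emb pA chartA U hU)).hom.app (GrMod.tilde (ℬ.deg U hU) (𝒩.deg U hU) n) ≫
    (Scheme.Modules.pushforwardCongr (map_emb φ hφ hirr chartA chartB hh U hU)).hom.app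
      (GrMod.tilde (ℬ.deg U hU) (𝒩.deg U hU) n) ≫
    (Scheme.Modules.pushforwardComp (emb pB chartB U hU) h).inv.app
      (GrMod.tilde (ℬ.deg U hU) (𝒩.deg U hU) n)

lemma val_component (U : Y.Opens) (hU : IsAffineOpen U) (W : PA.Opens) (s : Γ(F, W))
    (y : ProjectiveSpectrum (ℬ.deg U hU)) (hy : (emb pB chartB U hU).base y ∈ h ⁻¹ᵁ W) :
    GrMod.val (V := pre pB chartB U hU (h ⁻¹ᵁ W))
        ((component φ hφ hirr chartA chartB hh v hv n lam U hU).app W s) ⟨y, hy⟩ =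
      GrMod.locModMap (gradedHomAt φ hφ U hU) (hirr U hU) (v U hU) y
        (GrMod.val (V := pre pA chartA U hU W) ((lam U hU).app W s)
          ⟨_, mem_comap φ hφ hirr chartA chartB hh U hU y hy⟩) := rfl

variable {lam} (hA : IsRelProj 𝒜 pA chartA) (hB : IsRelProj ℬ pB chartB) (hF : Compat ℳ n lam)

include hA hF hnat in
lemma component_trans (U : Y.Opens) (hU : IsAffineOpen U) (r : Γ(Y, U)) :
    component φ hφ hirr chartA chartB hh v hv n lam (Y.basicOpen r) (hU.basicOpen r) =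
      component φ hφ hirr chartA chartB hh v hv n lam U hU ≫
        (Scheme.Modules.pushforward h).map
          (transMap hB 𝒩 n hU (hU.basicOpen r) (Y.basicOpen_le r)) := by
  refine Scheme.Modules.hom_ext _ _ fun W ↦ ?_
  ext s
  refine chart_ext (𝒮 := ℬ) (p := pB) (chart := chartB) (ℳ := 𝒩) (n := n) (U := Y.basicOpen r)
    (hU := hU.basicOpen r) (W := h ⁻¹ᵁ W) fun y hy ↦ ?_
  refine (val_component φ hφ hirr chartA chartB hh v hv n lam _ (hU.basicOpen r) W s y hy).trans ?_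
  refine Eq.trans ?_ (val_trans hB hU (hU.basicOpen r) (Y.basicOpen_le r)
    ((component φ hφ hirr chartA chartB hh v hv n lam U hU).app W s) y hy).symm
  have h2 := emb_comap_mem hB hU (hU.basicOpen r) (Y.basicOpen_le r) y hy
  have hD := mem_comap φ hφ hirr chartA chartB hh (Y.basicOpen r) (hU.basicOpen r) y hy
  refine (congrArg (GrMod.locModMap _ _ _ y) (hF U hU r W s _ hD (hy'_of hA U hU r _ hD))).trans ?_
  refine Eq.trans ?_ (congrArg (GrMod.locModMap _ _ _ y)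
    (val_component φ hφ hirr chartA chartB hh v hv n lam U hU W s _ h2)).symm
  exact locModMap_square (gradedHomAt φ hφ U hU) (hirr U hU)
    (gradedHomAt φ hφ (Y.basicOpen r) (hU.basicOpen r)) (hirr _ _)
    (𝒜.res hU (hU.basicOpen r) (Y.basicOpen_le r)) (𝒜.irrelevant_le_map U hU r)
    (ℬ.res hU (hU.basicOpen r) (Y.basicOpen_le r))
    (irrelevant_le_map_affine ℬ hU (hU.basicOpen r) (Y.basicOpen_le r))
    (fun a ↦ congr($(φ.hom.naturality (homOfLE (Y.basicOpen_le r)).op).hom a))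
    (v U hU) (v _ (hU.basicOpen r)) (ℳ.res hU (hU.basicOpen r) (Y.basicOpen_le r))
    (𝒩.res hU (hU.basicOpen r) (Y.basicOpen_le r)) (hnat U hU r) y
    (fun x ↦ (emb pA chartA U hU).base x ∈ W)
    (fun x hx ↦ GrMod.val (V := pre pA chartA U hU W) ((lam U hU).app W s) ⟨x, hx⟩)
    (hy'_of hA U hU r _ hD) (mem_comap φ hφ hirr chartA chartB hh U hU _ h2)

include hh hA hB hF hnat in
/-- The morphism over `h` exists and is unique. -/
theorem existsUnique_psiMap {G : PB.Modules}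
    {lam' : ∀ (U : Y.Opens) (hU : IsAffineOpen U), G ⟶ chartMod 𝒩 n pB chartB U hU}
    (hG : IsRelTilde ℬ pB chartB 𝒩 n G lam') :
    ∃! θ : F ⟶ (Scheme.Modules.pushforward h).obj G,
      ∀ (U : Y.Opens) (hU : IsAffineOpen U),
        θ ≫ (Scheme.Modules.pushforward h).map (lam' U hU) =
          component φ hφ hirr chartA chartB hh v hv n lam U hU := by
  let adj := Scheme.Modules.pullbackPushforwardAdjunction h
  let τ := fun (U : Y.Opens) (hU : IsAffineOpen U) ↦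
    (adj.homEquiv F (chartMod 𝒩 n pB chartB U hU)).symm
      (component φ hφ hirr chartA chartB hh v hv n lam U hU)
  have hτ : Compat 𝒩 n τ := compat_of_eq_trans hB fun U hU r ↦
    (congrArg (adj.homEquiv F _).symm
      (component_trans φ hφ hirr chartA chartB hh v hv hnat n hA hB hF U hU r)).trans
      (adj.homEquiv_naturality_right_symm _ _)
  obtain ⟨θ', hθ', huniq⟩ := existsUnique_hom (θ := τ) hB hτ hG
  have key : ∀ (θ : F ⟶ (Scheme.Modules.pushforward h).obj G) (U : Y.Opens) (hU : IsAffineOpen U),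
      θ ≫ (Scheme.Modules.pushforward h).map (lam' U hU) =
          component φ hφ hirr chartA chartB hh v hv n lam U hU ↔
        (adj.homEquiv F G).symm θ ≫ lam' U hU = τ U hU := fun θ U hU ↦
    ⟨fun e ↦ (adj.homEquiv_naturality_right_symm θ (lam' U hU)).symm.trans (congrArg _ e),
      fun e ↦ (adj.homEquiv F _).symm.injective
        ((adj.homEquiv_naturality_right_symm θ (lam' U hU)).trans e)⟩
  refine ⟨adj.homEquiv F G θ', fun U hU ↦ (key _ U hU).mpr ?_, fun θ hθ ↦ ?_⟩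
  · rw [Equiv.symm_apply_apply]
    exact hθ' U hU
  · exact (Equiv.apply_symm_apply (adj.homEquiv F G) θ).symm.trans
      (congrArg _ (huniq _ fun U hU ↦ (key θ U hU).mp (hθ U hU)))

include hh hv hA hB hF hnat in
/-- The morphism over `h`, pinned by values. -/
theorem existsUnique_psiMap_val {G : PB.Modules}
    {lam' : ∀ (U : Y.Opens) (hU : IsAffineOpen U), G ⟶ chartMod 𝒩 n pB chartB U hU}
    (hG : IsRelTilde ℬ pB chartB 𝒩 n G lam') :
    ∃! θ : F ⟶ (Scheme.Modules.pushforward h).obj G,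
      ∀ (U : Y.Opens) (hU : IsAffineOpen U) (W : PA.Opens) (s : Γ(F, W))
        (y : ProjectiveSpectrum (ℬ.deg U hU))
        (hy : (emb pB chartB U hU).base y ∈ h ⁻¹ᵁ W)
        (hy' : (emb pA chartA U hU).base
          (ProjectiveSpectrum.comap (gradedHomAt φ hφ U hU) (hirr U hU) y) ∈ W),
        GrMod.val (V := pre pB chartB U hU (h ⁻¹ᵁ W)) ((lam' U hU).app (h ⁻¹ᵁ W) (θ.app W s)) ⟨y, hy⟩ =
          GrMod.locModMap (gradedHomAt φ hφ U hU) (hirr U hU) (v U hU) y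
            (GrMod.val (V := pre pA chartA U hU W) ((lam U hU).app W s) ⟨_, hy'⟩) := by
  obtain ⟨θ, hθ, huniq⟩ := existsUnique_psiMap φ hφ hirr chartA chartB hh v hv hnat n hA hB hF hG
  refine ⟨θ, fun U hU W s y hy hy' ↦ ?_, fun θ₁ hθ₁ ↦ huniq θ₁ fun U hU ↦ ?_⟩
  · refine Eq.trans ?_ (val_component φ hφ hirr chartA chartB hh v hv n lam U hU W s y hy)
    rw [← hθ U hU]
    rfl
  · refine Scheme.Modules.hom_ext _ _ fun W ↦ ?_
    ext s
    refine chart_ext (𝒮 := ℬ) (p := pB) (chart := chartB) (ℳ := 𝒩) (n := n) (U := U) (hU := hU)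
      (W := h ⁻¹ᵁ W) fun y hy ↦ ?_
    exact (hθ₁ U hU W s y hy (mem_comap φ hφ hirr chartA chartB hh U hU y hy)).trans
      (val_component φ hφ hirr chartA chartB hh v hv n lam U hU W s y hy).symm

end Groth.Agent.RelTildeLib
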