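import Groth.Agent.RelTildeLib.Basic
import Groth.Agent.GrModLib.QC

/-!
The module `(ℳ(n))~` on a relative Proj is quasi-coherent.
-/

universe u

open CategoryTheory CategoryTheory.Limits AlgebraicGeometry Opposite TopologicalSpace
open scoped HomogeneousIdeal

noncomputable section

namespace Groth.Agent.RelTildeLib

open GrModLib RelProjLib RelProj

/-- A module that sections-wise is the pushforward of a quasi-coherent module along an open immersion,
near a point of the image, has the localizing property there. -/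
theorem isLocalizingAt_of_bijective {X Z : Scheme.{u}} (e : Z ⟶ X) {F : X.Modules} {T : Z.Modules}
    [T.IsQuasicoherent] (φ : F ⟶ (Scheme.Modules.pushforward e).obj T) {A : X.Opens}
    (hA : IsAffineOpen (e ⁻¹ᵁ A)) (hbij : ∀ W ≤ A, Function.Bijective (φ.app W)) (c : Γ(X, A)) :
    QCoh.IsLocalizingAt F c := by
  have H := (QCoh.IsLocalizingOn.congr_iff (h' := e.preimage_mono (X.basicOpen_le c)) rfl
    (Scheme.preimage_basicOpen e c)).mp (QCoh.isLocalizingAt T hA (e.app A c))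
  rw [QCoh.rres_self] at H
  refine ⟨fun σ ↦ ?_, fun t ht ↦ ?_⟩
  · obtain ⟨k, t, ht⟩ := H.surj (φ.app _ σ)
    obtain ⟨t', rfl⟩ := (hbij A le_rfl).2 t
    refine ⟨k, t', (hbij _ (X.basicOpen_le c)).1 ?_⟩
    rw [QCoh.app_res, Scheme.Modules.Hom.app_smul]
    refine ht.trans (Eq.trans ?_ (QCoh.push_smul e T (QCoh.rres (X.basicOpen_le c) c ^ k) _).symm)
    rw [map_pow]
    congr 2
    exact congr($(e.naturality (homOfLE (X.basicOpen_le c)).op) c).symm
  · obtain ⟨k, hk⟩ := H.eq_zero (φ.app A t) <| by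
      have h0 := congrArg (φ.app _) ht
      rw [QCoh.app_res, map_zero] at h0
      exact h0
    refine ⟨k, (hbij A le_rfl).1 ?_⟩
    rw [Scheme.Modules.Hom.app_smul, map_zero]
    exact (QCoh.push_smul e T (c ^ k) _).trans (by rw [map_pow]; exact hk)

variable {Y P : Scheme.{u}} {𝒮 : QCGrAlg Y} {p : P ⟶ Y}
  {chart : ∀ (U : Y.Opens) (hU : IsAffineOpen U), (((p ⁻¹ᵁ U : P.Opens) : Scheme.{u}) ≅ Proj (𝒮.deg U hU))}
  {ℳ : GrModule 𝒮} {n : ℤ}

/-- The module `(ℳ(n))~` is quasi-coherent. -/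
theorem isQuasicoherent {F : P.Modules}
    {lam : ∀ (U : Y.Opens) (hU : IsAffineOpen U),
      F ⟶ (Scheme.Modules.pushforward (emb p chart U hU)).obj (GrMod.tilde (𝒮.deg U hU) (ℳ.deg U hU) n)}
    (hF : IsRelTilde 𝒮 p chart ℳ n F lam) : F.IsQuasicoherent := by
  refine QCoh.isQuasicoherent_of_forall_exists_isLocalizingAt F fun x ↦ ?_
  obtain ⟨U, hU, hxU, -⟩ := Y.isBasis_affineOpens.exists_subset_of_mem_open
    (Set.mem_univ (p x)) isOpen_univ
  obtain ⟨U, hU, rfl⟩ := hU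
  obtain ⟨y, rfl⟩ := exists_emb_eq (chart := chart) U hU (x := x) hxU
  obtain ⟨d, f, hd, hf, hfy⟩ := exists_pos_nin (show ProjectiveSpectrum (𝒮.deg U hU) from y)
  have hA : IsAffineOpen (Proj.basicOpen (𝒮.deg U hU) f) := Proj.isAffineOpen_basicOpen _ f hf hd
  let e := emb p chart U hU
  have := isQuasicoherent_tilde (𝒜 := 𝒮.deg U hU) (ℳ := ℳ.deg U hU) n
  refine ⟨e ''ᵁ Proj.basicOpen (𝒮.deg U hU) f, hA.image_of_isOpenImmersion e, ⟨y, hfy, rfl⟩,
    isLocalizingAt_of_bijective e (lam U hU) (by rw [e.preimage_image_eq]; exact hA) fun W hW ↦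
      hF.bijective U hU W (hW.trans ?_)⟩
  rintro _ ⟨z, -, rfl⟩
  exact emb_mem U hU z

end Groth.Agent.RelTildeLib
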