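import Groth.Agent.RelTildeLib.Basic

/-!
Local properties of the induced morphisms between modules `(ℳ(n))~` on a relative Proj, from the charts.
-/

universe u

open CategoryTheory CategoryTheory.Limits AlgebraicGeometry Opposite TopologicalSpace
open scoped HomogeneousIdeal

noncomputable section

namespace Groth.Agent.RelTildeLib

open GrModLib RelProjLib RelProj

variable {Y P : Scheme.{u}} {𝒮 : QCGrAlg Y} {p : P ⟶ Y}
  {chart : ∀ (U : Y.Opens) (hU : IsAffineOpen U), (((p ⁻¹ᵁ U : P.Opens) : Scheme.{u}) ≅ Proj (𝒮.deg U hU))}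
  {ℳ 𝒩 : GrModule 𝒮} {n : ℤ}
  {u : ℳ.mod ⟶ 𝒩.mod} (hu : RelProj.IsGrModHom u) {F G : P.Modules}
  {lam : ∀ (U : Y.Opens) (hU : IsAffineOpen U),
    F ⟶ (Scheme.Modules.pushforward (emb p chart U hU)).obj (GrMod.tilde (𝒮.deg U hU) (ℳ.deg U hU) n)}
  {lam' : ∀ (U : Y.Opens) (hU : IsAffineOpen U),
    G ⟶ (Scheme.Modules.pushforward (emb p chart U hU)).obj (GrMod.tilde (𝒮.deg U hU) (𝒩.deg U hU) n)}
  {φ : F ⟶ G}
  (hφ : ∀ (U : Y.Opens) (hU : IsAffineOpen U), φ ≫ lam' U hU = lam U hU ≫ chartMap n u hu U hU)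

include hφ in
lemma lam'_app (U : Y.Opens) (hU : IsAffineOpen U) (W : P.Opens) (s : Γ(F, W)) :
    (lam' U hU).app W (φ.app W s) = (chartMap n u hu U hU).app W ((lam U hU).app W s) :=
  congr(($(hφ U hU)).app W s)

include hφ in
/-- A section killed by the morphism restricts to zero as soon as this holds on the charts. -/
theorem mono_of_chart (hF : IsRelTilde 𝒮 p chart ℳ n F lam)
    (h : ∀ (U : Y.Opens) (hU : IsAffineOpen U) (V : (Proj (𝒮.deg U hU)).Opens)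
      (s : GrMod.sect (𝒮.deg U hU) (ℳ.deg U hU) n (op V)),
      GrMod.mapApp (linMap u U) (hu U hU) n (op V) s = 0 → s = 0) : Mono φ := by
  refine mono_of_injective φ fun W s hs ↦ ?_
  refine QCoh.eq_zero_of_locally_eq_zero F (fun _ ↦ inf_le_left) (le_iSup_inf_preimage (p := p) W) s
    fun U ↦ (hF.bijective U.1 U.2 _ inf_le_right).1 ?_
  rw [map_zero]
  refine h U.1 U.2 (pre p chart U.1 U.2 _) _ ?_
  refine Eq.trans (Eq.symm (lam'_app hu hφ U.1 U.2 _ (QCoh.res F inf_le_left s))) ?_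
  rw [QCoh.app_res, hs, map_zero, map_zero]
  rfl

include hφ in
/-- Local liftings on a chart give local liftings on the relative Proj. -/
theorem exists_lift (hF : IsRelTilde 𝒮 p chart ℳ n F lam) (hG : IsRelTilde 𝒮 p chart 𝒩 n G lam')
    {U : Y.Opens} {hU : IsAffineOpen U} {W : P.Opens} (t : Γ(G, W))
    (y : ProjectiveSpectrum (𝒮.deg U hU))
    (h : ∃ (V : Opens (ProjectiveSpectrum.top (𝒮.deg U hU))) (hV : V ≤ pre p chart U hU W), y ∈ V ∧
      ∃ s : GrMod.sect (𝒮.deg U hU) (ℳ.deg U hU) n (op V),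
        GrMod.mapApp (linMap u U) (hu U hU) n (op V) s =
          GrMod.res (𝒮.deg U hU) (𝒩.deg U hU) n (homOfLE hV).op ((lam' U hU).app W t)) :
    ∃ (W' : P.Opens) (hle : W' ≤ W), (emb p chart U hU).base y ∈ W' ∧
      ∃ s : Γ(F, W'), φ.app W' s = QCoh.res G hle t := by
  obtain ⟨V, hV, hyV, s₀, hs₀⟩ := h
  let e := emb p chart U hU
  let W' : P.Opens := e ''ᵁ (V : (Proj (𝒮.deg U hU)).Opens)
  have hW'U : W' ≤ p ⁻¹ᵁ U := by
    rintro _ ⟨z, -, rfl⟩
    exact emb_mem U hU z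
  have hW'W : W' ≤ W := by
    rintro _ ⟨z, hz, rfl⟩
    exact hV hz
  have hpre : pre p chart U hU W' ≤ (V : (Proj (𝒮.deg U hU)).Opens) :=
    (e.preimage_image_eq _).le
  obtain ⟨s, hs⟩ := (hF.bijective U hU W' hW'U).2
    (GrMod.res (𝒮.deg U hU) (ℳ.deg U hU) n (homOfLE hpre).op s₀)
  refine ⟨W', hW'W, ⟨y, hyV, rfl⟩, s, (hG.bijective U hU W' hW'U).1 ?_⟩
  rw [lam'_app hu hφ, hs, QCoh.app_res]
  refine chart_ext fun z hz ↦ ?_
  exact congrArg (fun a : GrMod.sect (𝒮.deg U hU) (𝒩.deg U hU) n (op V) ↦ valAt a z (hpre hz)) hs₀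

end Groth.Agent.RelTildeLib
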