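import Groth.Agent.RelTildeLib.Basic
import Groth.Agent.GrModLib.RelUniform
import Groth.Agent.RelProjLib.Res

/-!
The comparison maps between the modules `(ℳ(U)(n))~` of two charts of a relative Proj.
-/

universe u

open CategoryTheory CategoryTheory.Limits AlgebraicGeometry Opposite TopologicalSpace
open scoped HomogeneousIdeal

noncomputable section

namespace Groth.Agent.RelTildeLib

open GrModLib RelProjLib RelProj

variable {Y P : Scheme.{u}} {𝒮 : QCGrAlg Y} {p : P ⟶ Y}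
  {chart : ∀ (U : Y.Opens) (hU : IsAffineOpen U), (((p ⁻¹ᵁ U : P.Opens) : Scheme.{u}) ≅ Proj (𝒮.deg U hU))}
  (hP : IsRelProj 𝒮 p chart) (ℳ : GrModule 𝒮) (n : ℤ)

/-- The module of a chart, pushed to the relative Proj. -/
abbrev chartMod (p : P ⟶ Y)
    (chart : ∀ (U : Y.Opens) (hU : IsAffineOpen U), (((p ⁻¹ᵁ U : P.Opens) : Scheme.{u}) ≅ Proj (𝒮.deg U hU)))
    (U : Y.Opens) (hU : IsAffineOpen U) : P.Modules :=
  (Scheme.Modules.pushforward (emb p chart U hU)).obj (GrMod.tilde (𝒮.deg U hU) (ℳ.deg U hU) n)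

/-- The comparison of two charts. -/
def transMap {U V : Y.Opens} (hU : IsAffineOpen U) (hV : IsAffineOpen V) (i : V ≤ U) :
    chartMod ℳ n p chart U hU ⟶ chartMod ℳ n p chart V hV :=
  (Scheme.Modules.pushforward (emb p chart U hU)).map
      (GrMod.comap (𝒮.res hU hV i) (irrelevant_le_map_affine 𝒮 hU hV i) (ℳ.res hU hV i)
        (ℳ.res_mem hU hV i) n) ≫
    (Scheme.Modules.pushforwardComp
      (Proj.map (𝒮.res hU hV i) (irrelevant_le_map_affine 𝒮 hU hV i)) (emb p chart U hU)).hom.app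
        (GrMod.tilde (𝒮.deg V hV) (ℳ.deg V hV) n) ≫
    (Scheme.Modules.pushforwardCongr (map_res_emb_affine 𝒮 hP hU hV i)).hom.app
      (GrMod.tilde (𝒮.deg V hV) (ℳ.deg V hV) n)

variable {ℳ n}

include hP in
lemma emb_comap_mem {U V : Y.Opens} (hU : IsAffineOpen U) (hV : IsAffineOpen V) (i : V ≤ U)
    {W : P.Opens} (y : ProjectiveSpectrum (𝒮.deg V hV)) (hy : (emb p chart V hV).base y ∈ W) :
    (emb p chart U hU).base (ProjectiveSpectrum.comap (𝒮.res hU hV i)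
      (irrelevant_le_map_affine 𝒮 hU hV i) y) ∈ W := by
  rw [← map_res_emb_affine 𝒮 hP hU hV i] at hy
  exact hy

lemma val_trans {U V : Y.Opens} (hU : IsAffineOpen U) (hV : IsAffineOpen V) (i : V ≤ U) {W : P.Opens}
    (a : Γ(chartMod ℳ n p chart U hU, W)) (y : ProjectiveSpectrum (𝒮.deg V hV))
    (hy : (emb p chart V hV).base y ∈ W) :
    GrMod.val (V := pre p chart V hV W) ((transMap hP ℳ n hU hV i).app W a) ⟨y, hy⟩ =
      GrMod.locModMap (𝒮.res hU hV i) (irrelevant_le_map_affine 𝒮 hU hV i) (ℳ.res hU hV i) y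
        (GrMod.val (V := pre p chart U hU W) a ⟨_, emb_comap_mem hP hU hV i y hy⟩) := rfl

lemma exists_val_eq_mk {U : Y.Opens} {hU : IsAffineOpen U} {W : P.Opens}
    (a : Γ(chartMod ℳ n p chart U hU, W)) (y : ProjectiveSpectrum (𝒮.deg U hU))
    (hy : (emb p chart U hU).base y ∈ W) :
    ∃ (m : ℳ.mod.val.obj (op U)) (g : 𝒮.presheaf.obj (op U)) (hg : g ∉ y.asHomogeneousIdeal),
      GrMod.val (V := pre p chart U hU W) a ⟨y, hy⟩ = mk y m g hg := by
  obtain ⟨j, k, g, q, -, -, -, hgy, hval⟩ := exists_local_frac' n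
    (a : GrMod.sect (𝒮.deg U hU) (ℳ.deg U hU) n (op (pre p chart U hU W))) y hy
  obtain ⟨_, e⟩ := hval y hgy
  exact ⟨q, g, hgy, e⟩

lemma trans_trans {U V Z : Y.Opens} (hU : IsAffineOpen U) (hV : IsAffineOpen V) (hZ : IsAffineOpen Z)
    (i : V ≤ U) (i' : Z ≤ V) {W : P.Opens} (a : Γ(chartMod ℳ n p chart U hU, W)) :
    (transMap hP ℳ n hV hZ i').app W ((transMap hP ℳ n hU hV i).app W a) =
      (transMap hP ℳ n hU hZ (i'.trans i)).app W a := by
  refine chart_ext fun z hz ↦ ?_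
  rw [val_trans, val_trans, val_trans]
  set y := ProjectiveSpectrum.comap (𝒮.res hV hZ i') (irrelevant_le_map_affine 𝒮 hV hZ i') z
  have hrr : ∀ b, 𝒮.res hV hZ i' (𝒮.res hU hV i b) = 𝒮.res hU hZ (i'.trans i) b :=
    fun b ↦ congr($((RelProjLib.res_comp 𝒮 hU hV hZ i i').symm) b)
  have hxy : ProjectiveSpectrum.comap (𝒮.res hU hV i) (irrelevant_le_map_affine 𝒮 hU hV i) y =
      ProjectiveSpectrum.comap (𝒮.res hU hZ (i'.trans i))
        (irrelevant_le_map_affine 𝒮 hU hZ (i'.trans i)) z := by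
    refine ProjectiveSpectrum.ext (HomogeneousIdeal.ext (SetLike.ext fun b ↦ ?_))
    change 𝒮.res hV hZ i' (𝒮.res hU hV i b) ∈ z.asHomogeneousIdeal ↔
      𝒮.res hU hZ (i'.trans i) b ∈ z.asHomogeneousIdeal
    rw [hrr b]
  obtain ⟨m, g, hg, hval⟩ := exists_val_eq_mk a _ (emb_comap_mem hP hU hZ (i'.trans i) z hz)
  have gen : ∀ x (hx : (emb p chart U hU).base x ∈ W) (hg' : g ∉ x.asHomogeneousIdeal),
      GrMod.val (V := pre p chart U hU W) a ⟨x, hx⟩ = mk x m g hg' →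
      ∀ x' (_ : x' = x) (hx' : (emb p chart U hU).base x' ∈ W), ∃ hg'' : g ∉ x'.asHomogeneousIdeal,
        GrMod.val (V := pre p chart U hU W) a ⟨x', hx'⟩ = mk x' m g hg'' := by
    intro x hx hg' h x' e hx'
    subst e
    exact ⟨hg', h⟩
  obtain ⟨hg'', hval'⟩ := gen _ _ _ hval _ hxy
    (emb_comap_mem hP hU hV i y (emb_comap_mem hP hV hZ i' z hz))
  refine (congrArg (fun q ↦ GrMod.locModMap (𝒮.res hV hZ i') _ (ℳ.res hV hZ i') z
    (GrMod.locModMap (𝒮.res hU hV i) (irrelevant_le_map_affine 𝒮 hU hV i) (ℳ.res hU hV i) y q))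
    hval').trans ?_
  refine Eq.trans ?_ (congrArg (GrMod.locModMap _ (irrelevant_le_map_affine 𝒮 hU hZ (i'.trans i)) _ z) hval).symm
  refine (congrArg (GrMod.locModMap _ _ _ z) (GrMod.locModMap_mk _ _ _ y m ⟨g, hg''⟩)).trans ?_
  refine (GrMod.locModMap_mk _ _ _ z _ ⟨_, hg''⟩).trans (Eq.trans ?_
    (GrMod.locModMap_mk _ _ _ z m ⟨g, hg⟩).symm)
  refine mk_eq_mk_iff.mpr ⟨1, GrMod.one_nin z, ?_⟩
  have hmr : ℳ.res hV hZ i' (ℳ.res hU hV i m) = ℳ.res hU hZ (i'.trans i) m :=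
    QCoh.res_res ((AMod.toOS 𝒮.toQCAlg).obj ℳ.mod) i i' m
  rw [one_smul, sub_eq_zero]
  change 𝒮.res hU hZ (i'.trans i) g • ℳ.res hV hZ i' (ℳ.res hU hV i m) =
    𝒮.res hV hZ i' (𝒮.res hU hV i g) • ℳ.res hU hZ (i'.trans i) m
  rw [hrr, hmr]

lemma trans_self {U : Y.Opens} (hU : IsAffineOpen U) (hU' : IsAffineOpen U) (i : U ≤ U) {W : P.Opens}
    (a : Γ(chartMod ℳ n p chart U hU, W)) : (transMap hP ℳ n hU hU' i).app W a = a := by
  refine chart_ext fun y hy ↦ ?_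
  rw [val_trans]
  have hxy : ProjectiveSpectrum.comap (𝒮.res hU hU' i) (irrelevant_le_map_affine 𝒮 hU hU' i) y = y := by
    refine ProjectiveSpectrum.ext (HomogeneousIdeal.ext (SetLike.ext fun b ↦ ?_))
    change (𝒮.presheaf.map (homOfLE i).op).hom b ∈ y.asHomogeneousIdeal ↔ b ∈ y.asHomogeneousIdeal
    simp
  obtain ⟨m, g, hg, hval⟩ := exists_val_eq_mk a y hy
  have gen : ∀ x (_ : x = y) (hx : (emb p chart U hU).base x ∈ W),
      ∃ hg' : g ∉ x.asHomogeneousIdeal,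
        GrMod.val (V := pre p chart U hU W) a ⟨x, hx⟩ = mk x m g hg' := by
    intro x e hx
    subst e
    exact ⟨hg, hval⟩
  obtain ⟨hg', hval'⟩ := gen _ hxy (emb_comap_mem hP hU hU' i y hy)
  refine (congrArg (GrMod.locModMap _ (irrelevant_le_map_affine 𝒮 hU hU' i) _ y) hval').trans ?_
  refine (GrMod.locModMap_mk _ _ _ y m ⟨g, hg'⟩).trans (Eq.trans ?_ hval.symm)
  refine mk_eq_mk_iff.mpr ⟨1, GrMod.one_nin y, ?_⟩
  have h1 : 𝒮.res hU hU' i g = g := by simp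
  have h2 : ℳ.res hU hU' i m = m := QCoh.res_self ((AMod.toOS 𝒮.toQCAlg).obj ℳ.mod) i m
  rw [one_smul, sub_eq_zero]
  change g • ℳ.res hU hU' i m = 𝒮.res hU hU' i g • m
  rw [h1, h2]

variable (hℳ : Coh.IsQCoh ((AMod.toOS 𝒮.toQCAlg).obj ℳ.mod))

include hℳ in
/-- The comparison with the chart of a basic open is injective over that chart. -/
lemma trans_injective {U V : Y.Opens} (hU : IsAffineOpen U) (hV : IsAffineOpen V) (i : V ≤ U)
    (r : Γ(Y, U)) (e : Y.basicOpen r = V) {W : P.Opens} (hW : W ≤ p ⁻¹ᵁ V) :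
    Function.Injective ((transMap hP ℳ n hU hV i).app W) := by
  have hA := isAwayMap_res hℳ hU hV r e i
  have hR : RelProjLib.IsAwayZero (𝒮.res hU hV i) ⟨_, 𝒮.str_mem U hU r⟩ := by
    subst e; exact isAwayZero_res 𝒮 U hU r
  rw [injective_iff_map_eq_zero]
  intro a ha
  refine chart_ext fun x hx ↦ ?_
  change _ = (0 : GrMod.LocMod _ x)
  obtain ⟨y, hy⟩ := exists_emb_eq (chart := chart) V hV (hW hx)
  have hyW : (emb p chart V hV).base y ∈ W := hy ▸ hx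
  obtain rfl : ProjectiveSpectrum.comap (𝒮.res hU hV i) (irrelevant_le_map_affine 𝒮 hU hV i) y = x := by
    apply (emb p chart U hU).isOpenEmbedding.injective
    refine Eq.trans ?_ hy
    rw [← map_res_emb_affine 𝒮 hP hU hV i]
    rfl
  obtain ⟨j, k, g, q, -, hq, -, hgx, hval⟩ := exists_local_frac' n
    (a : GrMod.sect (𝒮.deg U hU) (ℳ.deg U hU) n (op (pre p chart U hU W))) _ hx
  obtain ⟨_, ev⟩ := hval _ hgx
  have h1 : mk y (ℳ.res hU hV i q) (𝒮.res hU hV i g) hgx = 0 := by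
    refine (GrMod.locModMap_mk _ (irrelevant_le_map_affine 𝒮 hU hV i) _ y q ⟨g, hgx⟩).symm.trans ?_
    refine (congrArg (GrMod.locModMap _ (irrelevant_le_map_affine 𝒮 hU hV i) _ y) ev).symm.trans ?_
    refine (val_trans hP hU hV i a y hyW).symm.trans ?_
    rw [ha]
    rfl
  obtain ⟨b, hb, hbq⟩ := mk_eq_zero_iff.mp h1
  obtain ⟨a₁, k₁, ha₁⟩ := hR.surj b
  refine ev.trans (mk_eq_zero_iff.mpr ?_)
  obtain ⟨t, ht⟩ := hA.ker (a₁ • q) <| by
    rw [map_smul_v (ℳ.res hU hV i), ← ha₁, mul_comm, mul_smul, hbq, smul_zero]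
  refine ⟨((𝒮.str.app (op U)).hom r) ^ t * a₁, fun h ↦ ?_, by rw [mul_smul, ht]⟩
  have hu : ∀ k : ℕ, 𝒮.res hU hV i ((𝒮.str.app (op U)).hom r) ^ k ∉ y.asHomogeneousIdeal := fun k h ↦
    y.isPrime.ne_top (Ideal.eq_top_of_isUnit_mem _ h (hA.isUnit.pow k))
  rcases (ProjectiveSpectrum.comap _ (irrelevant_le_map_affine 𝒮 hU hV i) y).isPrime.mem_or_mem h
    with h | h
  · exact hu t (by rw [← map_pow]; exact h)
  · have h' : 𝒮.res hU hV i a₁ ∈ y.asHomogeneousIdeal := h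
    rw [← ha₁] at h'
    exact (y.isPrime.mem_or_mem h').elim hb (hu k₁)

include hℳ in
/-- The comparison with the chart of a basic open is locally surjective over that chart. -/
lemma exists_trans_eq_local {U V : Y.Opens} (hU : IsAffineOpen U) (hV : IsAffineOpen V) (i : V ≤ U)
    (r : Γ(Y, U)) (e : Y.basicOpen r = V) {W : P.Opens}
    (t : Γ(chartMod ℳ n p chart V hV, W)) (y : ProjectiveSpectrum (𝒮.deg V hV))
    (hy : (emb p chart V hV).base y ∈ W) :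
    ∃ (W' : P.Opens) (hle : W' ≤ W), (emb p chart V hV).base y ∈ W' ∧
      ∃ s, (transMap hP ℳ n hU hV i).app W' s = QCoh.res _ hle t := by
  have hA := isAwayMap_res hℳ hU hV r e i
  have hR : RelProjLib.IsAwayZero (𝒮.res hU hV i) ⟨_, 𝒮.str_mem U hU r⟩ := by
    subst e; exact isAwayZero_res 𝒮 U hU r
  set c := (𝒮.str.app (op U)).hom r
  set ψ := 𝒮.res hU hV i
  obtain ⟨j, k, g, q, hg, hq, hk, hgy, hval⟩ := exists_local_frac' n
    (t : GrMod.sect (𝒮.deg V hV) (ℳ.deg V hV) n (op (pre p chart V hV W))) y hy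
  obtain ⟨x₁, a, ha⟩ := hR.surj g
  obtain ⟨b, m₀, hm₀, hb⟩ := hA.surj k q hq
  set g₀ : 𝒮.presheaf.obj (op U) := (DirectSum.decompose (𝒮.deg U hU) x₁ j : 𝒮.presheaf.obj (op U))
  have hg₀ : ψ g₀ = g * ψ c ^ a := by
    have h : g * ψ c ^ a ∈ 𝒮.deg V hV j := by
      simpa using SetLike.mul_mem_graded hg (pow_deg_zero (ψ.map_mem hA.deg) a)
    rw [GradedRingHom.map_directSumDecompose, ← ha, DirectSum.decompose_of_mem_same _ h]
  have hunit : ∀ l : ℕ, ψ c ^ l ∉ y.asHomogeneousIdeal := fun l h ↦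
    y.isPrime.ne_top (Ideal.eq_top_of_isUnit_mem _ h (hA.isUnit.pow l))
  have hgn : c ^ b * g₀ ∈ 𝒮.deg U hU j := by
    simpa using SetLike.mul_mem_graded (pow_deg_zero hA.deg b) (SetLike.coe_mem _)
  have hψg : ψ (c ^ b * g₀) = ψ c ^ (a + b) * g := by
    rw [map_mul, map_pow, hg₀]; ring
  let eU := emb p chart U hU
  let D : (Proj (𝒮.deg U hU)).Opens :=
    dPlus (𝒮.deg U hU) (c ^ b * g₀) ⊓ pre p chart U hU W
  have hle : eU ''ᵁ D ≤ W := by
    rintro _ ⟨z, hz, rfl⟩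
    exact hz.2
  have hpre : pre p chart U hU (eU ''ᵁ D) ≤ D := (eU.preimage_image_eq _).le
  have hyD : (emb p chart V hV).base y ∈ eU ''ᵁ D := by
    refine ⟨_, ⟨?_, emb_comap_mem hP hU hV i y hy⟩, ?_⟩
    · change ψ (c ^ b * g₀) ∉ y.asHomogeneousIdeal
      rw [hψg]
      exact fun h ↦ (y.isPrime.mem_or_mem h).elim (hunit _) hgy
    · rw [← map_res_emb_affine 𝒮 hP hU hV i]
      rfl
  refine ⟨_, hle, hyD, fracSec (smul_mem_same hA.deg hm₀ a) hgn n hk (fun z ↦ (hpre z.2).1),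
    chart_ext fun z hz ↦ ?_⟩
  rw [val_trans]
  have hz' : g ∉ z.asHomogeneousIdeal := fun h ↦ by
    have h1 : ψ (c ^ b * g₀) ∉ z.asHomogeneousIdeal := (hpre (emb_comap_mem hP hU hV i z hz)).1
    exact h1 (hψg ▸ Ideal.mul_mem_left _ _ h)
  obtain ⟨_, ev⟩ := hval z hz'
  refine (GrMod.locModMap_mk _ (irrelevant_le_map_affine 𝒮 hU hV i) _ z (c ^ a • m₀)
    ⟨c ^ b * g₀, (hpre (emb_comap_mem hP hU hV i z hz)).1⟩).trans ?_
  refine Eq.trans ?_ ev.symm
  refine mk_eq_mk_iff.mpr ⟨1, GrMod.one_nin z, ?_⟩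
  rw [one_smul, sub_eq_zero, map_smul_v (ℳ.res hU hV i), map_pow, ← hb, ← mul_smul, ← mul_smul]
  change _ = (ψ (c ^ b * g₀)) • q
  rw [hψg]
  congr 1
  ring

include hℳ in
/-- The comparison with the chart of a basic open is bijective over that chart. -/
theorem trans_bijective {U V : Y.Opens} (hU : IsAffineOpen U) (hV : IsAffineOpen V) (i : V ≤ U)
    (r : Γ(Y, U)) (e : Y.basicOpen r = V) {W : P.Opens} (hW : W ≤ p ⁻¹ᵁ V) :
    Function.Bijective ((transMap hP ℳ n hU hV i).app W) := by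
  refine ⟨trans_injective hP hℳ hU hV i r e hW, fun t ↦ ?_⟩
  have H : ∀ x : W, ∃ (W' : P.Opens) (hle : W' ≤ W), x.1 ∈ W' ∧
      ∃ s, (transMap hP ℳ n hU hV i).app W' s = QCoh.res _ hle t := fun x ↦ by
    obtain ⟨y, hy⟩ := exists_emb_eq (chart := chart) V hV (hW x.2)
    have hyW : (emb p chart V hV).base y ∈ W := hy ▸ x.2
    rw [← hy]
    exact exists_trans_eq_local hP hℳ hU hV i r e t y hyW
  choose W' hle hx s hs using H
  obtain ⟨s₀, hs₀⟩ := QCoh.exists_glue (chartMod ℳ n p chart U hU) hle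
    (fun x hx' ↦ Opens.mem_iSup.mpr ⟨⟨x, hx'⟩, hx _⟩) s fun x x' ↦ by
    refine trans_injective hP hℳ hU hV i r e ((inf_le_left.trans (hle x)).trans hW) ?_
    rw [QCoh.app_res, QCoh.app_res, hs, hs, QCoh.res_res, QCoh.res_res]
  refine ⟨s₀, QCoh.eq_of_locally_eq _ hle (fun x hx' ↦ Opens.mem_iSup.mpr ⟨⟨x, hx'⟩, hx _⟩) _ _
    fun x ↦ ?_⟩
  rw [← QCoh.app_res, hs₀, hs]

end Groth.Agent.RelTildeLib
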