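import Groth.Agent.RelTildeLib.TwistMul
import Groth.Agent.RelTildeLib.Transition
import Groth.Agent.AmpleLib.Twist

/-!
The product of the module `ℳ~` with a twisting sheaf.
-/

universe u

open CategoryTheory CategoryTheory.Limits AlgebraicGeometry Opposite TopologicalSpace
open scoped HomogeneousIdeal TensorProduct

noncomputable section

namespace Groth.Agent.RelTildeLib

open GrModLib RelProj Props.GenLocus Props.GenTensor

section Ring

variable {A σ : Type u} [CommRing A] [SetLike σ A] [AddSubgroupClass σ A] {𝒜 : ℕ → σ} [GradedRing 𝒜]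
  {M τ : Type u} [AddCommGroup M] [Module A M] [SetLike τ M] [AddSubgroupClass τ M] {ℳ : ℕ → τ}
  [SetLike.GradedSMul 𝒜 ℳ]

lemma tilde_ext {n : ℤ} {V : (Proj 𝒜).Opens} {t t' : Γ(GrMod.tilde 𝒜 ℳ n, V)}
    (h : ∀ x : V, GrMod.val t x = GrMod.val t' x) : t = t' :=
  Subtype.ext (funext fun x ↦ Subtype.ext (h x))

lemma val_smulM {n : ℤ} {V : (Proj 𝒜).Opens} (c : Γ(Proj 𝒜, V)) (t : Γ(GrMod.tilde 𝒜 ℳ n, V))
    (x : V) : GrMod.val (c • t) x = funVal c x.1 x.2 • GrMod.val t x :=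
  GrMod.coe_smul_val n x.1 _ _

variable {e m l : ℤ} (h : e + m = l) {U : (Proj 𝒜).Opens}

include h in
lemma exists_act_frac (s : Γ(GrTwist.twist 𝒜 e, U)) (t : Γ(GrMod.tilde 𝒜 ℳ m, U)) (x : U) :
    ∃ (V : (Proj 𝒜).Opens) (hle : V ≤ U) (_ : x.1 ∈ V) (i j : ℕ) (a : ℳ i) (b : 𝒜 j)
      (hb : ∀ y : V, (b : A) ∉ (show ProjectiveSpectrum 𝒜 from y.1).asHomogeneousIdeal),
      ((i : ℤ) = j + l ∨ (a : M) = 0) ∧
        ∀ y : V, GrTwist.val s ⟨y.1, hle y.2⟩ • GrMod.val t ⟨y.1, hle y.2⟩ =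
          LocalizedModule.mk (a : M) ⟨(b : A), hb y⟩ := by
  obtain ⟨V, hx, iV, i, j, a, p, hp, ha, wa⟩ :=
    (show GrTwist.sectN (𝒜 := 𝒜) e (op U) from s).2 x
  obtain ⟨W, hW, iW, i', j', b, q, hq, hb, wb⟩ := (show GrMod.sect 𝒜 ℳ m (op U) from t).2 x
  refine ⟨V ⊓ W, inf_le_left.trans iV.le, ⟨hx, hW⟩, i + i', j + j',
    ⟨_, SetLike.GradedSMul.smul_mem a.2 b.2⟩, ⟨_, SetLike.mul_mem_graded p.2 q.2⟩,
    fun y h' ↦ ((show ProjectiveSpectrum 𝒜 from y.1).isPrime.mem_or_mem h').elim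
      (hp ⟨y.1, y.2.1⟩) (hq ⟨y.1, y.2.2⟩), ?_, fun y ↦ ?_⟩
  · rcases ha with ha | ha
    · rcases hb with hb | hb
      · exact Or.inl (by push_cast; omega)
      · exact Or.inr (by simp [hb])
    · exact Or.inr (by simp [ha])
  · exact (congrArg₂ (· • ·) (wa ⟨y.1, y.2.1⟩) (wb ⟨y.1, y.2.2⟩)).trans
      (LocalizedModule.mk_smul_mk _ _ _ _)

/-- The product of a section of `O(e)` and a section of `M(m)~`. -/
def actG (s : Γ(GrTwist.twist 𝒜 e, U)) (t : Γ(GrMod.tilde 𝒜 ℳ m, U)) :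
    Γ(GrMod.tilde 𝒜 ℳ l, U) :=
  show GrMod.sect 𝒜 ℳ l (op U) from
  ⟨fun x ↦ ⟨GrTwist.val s x • GrMod.val t x, by
    obtain ⟨V, hle, hx, i, j, a, b, hb, hd, w⟩ := exists_act_frac h s t x
    refine (show GrTwist.val s x • GrMod.val t x = _ from w ⟨x.1, hx⟩) ▸ ?_
    rcases hd with hd | hd
    · exact Submodule.subset_span ⟨i, j, a, b, _, hd, rfl⟩
    · rw [hd, LocalizedModule.zero_mk]; exact zero_mem _⟩, fun x ↦ by
    obtain ⟨V, hle, hx, i, j, a, b, hb, hd, w⟩ := exists_act_frac h s t x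
    exact ⟨V, hx, homOfLE hle, i, j, a, b, hb, hd, w⟩⟩

lemma val_actG (s : Γ(GrTwist.twist 𝒜 e, U)) (t : Γ(GrMod.tilde 𝒜 ℳ m, U)) (x : U) :
    GrMod.val (actG h s t) x = GrTwist.val s x • GrMod.val t x := rfl

lemma bijective_actG (s : Γ(GrTwist.twist 𝒜 e, U)) (s' : Γ(GrTwist.twist 𝒜 (-e), U))
    (hs : ∀ x : U, GrTwist.val s' x * GrTwist.val s x = 1) :
    Function.Bijective (actG (ℳ := ℳ) h s : Γ(GrMod.tilde 𝒜 ℳ m, U) → _) :=
  Function.bijective_iff_has_inverse.mpr ⟨actG (show -e + l = m by omega) s',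
    fun t ↦ tilde_ext fun x ↦ by rw [val_actG, val_actG, smul_smul, hs x, one_smul],
    fun t ↦ tilde_ext fun x ↦ by rw [val_actG, val_actG, smul_smul, mul_comm, hs x, one_smul]⟩

end Ring

variable {Y P : Scheme.{u}} {𝒮 : QCGrAlg Y} {p : P ⟶ Y}
  {chart : ∀ (U : Y.Opens) (hU : IsAffineOpen U), (((p ⁻¹ᵁ U : P.Opens) : Scheme.{u}) ≅ Proj (𝒮.deg U hU))}
  {ℳ : GrModule 𝒮} {n : ℤ} {F : P.Modules}
  (lam : ∀ (U : Y.Opens) (hU : IsAffineOpen U),
    F ⟶ (Scheme.Modules.pushforward (emb p chart U hU)).obj (GrMod.tilde (𝒮.deg U hU) (ℳ.deg U hU) 0))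
  {L : P.Modules}
  (lamL : ∀ (U : Y.Opens) (hU : IsAffineOpen U),
    L ⟶ (Scheme.Modules.pushforward (emb p chart U hU)).obj (GrTwist.twist (𝒮.deg U hU) n))
  (U : Y.Opens) (hU : IsAffineOpen U)

/-- The value on a chart of a section of `ℳ~`. -/
abbrev mv {k : ℤ} {G : P.Modules}
    (lam : ∀ (U : Y.Opens) (hU : IsAffineOpen U),
      G ⟶ (Scheme.Modules.pushforward (emb p chart U hU)).obj (GrMod.tilde (𝒮.deg U hU) (ℳ.deg U hU) k))
    {W : P.Opens} (s : Γ(G, W)) (y : ProjectiveSpectrum (𝒮.deg U hU))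
    (hy : (emb p chart U hU).base y ∈ W) :
    GrMod.LocMod (𝒮.deg U hU) (M := ℳ.mod.val.obj (op U)) y :=
  GrMod.val (V := pre p chart U hU W) ((lam U hU).app W s) ⟨y, hy⟩

/-- The product on a chart. -/
def pairFun (V : P.Opens) (t : Γ(F, V)) (s : Γ(L, V)) : Γ(chartMod ℳ n p chart U hU, V) :=
  actG (U := pre p chart U hU V) (show n + 0 = n by omega)
    ((lamL U hU).app V s) ((lam U hU).app V t)

lemma val_pairFun (V : P.Opens) (t : Γ(F, V)) (s : Γ(L, V)) (y : ProjectiveSpectrum (𝒮.deg U hU))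
    (hy : (emb p chart U hU).base y ∈ V) :
    GrMod.val (V := pre p chart U hU V) (pairFun lam lamL U hU V t s) ⟨y, hy⟩ =
      tv lamL U hU s y hy • mv U hU lam t y hy := rfl

lemma mv_smul {k : ℤ} {G : P.Modules}
    {lam : ∀ (U : Y.Opens) (hU : IsAffineOpen U),
      G ⟶ (Scheme.Modules.pushforward (emb p chart U hU)).obj (GrMod.tilde (𝒮.deg U hU) (ℳ.deg U hU) k)}
    {W : P.Opens} (c : Γ(P, W)) (s : Γ(G, W)) (y : ProjectiveSpectrum (𝒮.deg U hU))
    (hy : (emb p chart U hU).base y ∈ W) :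
    mv U hU lam (c • s) y hy = fv p chart U hU c y hy • mv U hU lam s y hy :=
  (congrArg (fun t ↦ GrMod.val (V := pre p chart U hU W) t ⟨y, hy⟩)
    (Scheme.Modules.Hom.app_smul (lam U hU) c s)).trans (val_smulM _ _ _)

lemma mv_add {k : ℤ} {G : P.Modules}
    {lam : ∀ (U : Y.Opens) (hU : IsAffineOpen U),
      G ⟶ (Scheme.Modules.pushforward (emb p chart U hU)).obj (GrMod.tilde (𝒮.deg U hU) (ℳ.deg U hU) k)}
    {W : P.Opens} (s s' : Γ(G, W)) (y : ProjectiveSpectrum (𝒮.deg U hU))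
    (hy : (emb p chart U hU).base y ∈ W) :
    mv U hU lam (s + s') y hy = mv U hU lam s y hy + mv U hU lam s' y hy :=
  congrArg (fun t ↦ GrMod.val (V := pre p chart U hU W) t ⟨y, hy⟩) (map_add ((lam U hU).app W).hom s s')

omit lam in
lemma tv_add {W : P.Opens} (s s' : Γ(L, W)) (y : ProjectiveSpectrum (𝒮.deg U hU))
    (hy : (emb p chart U hU).base y ∈ W) :
    tv lamL U hU (s + s') y hy = tv lamL U hU s y hy + tv lamL U hU s' y hy :=
  congrArg (fun t ↦ GrTwist.val (V := pre p chart U hU W) t ⟨y, hy⟩)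
    (map_add ((lamL U hU).app W).hom s s')

omit lam lamL in
lemma val_smul_chart (V : P.Opens) (c : Γ(P, V)) (a : Γ(chartMod ℳ n p chart U hU, V))
    (y : ProjectiveSpectrum (𝒮.deg U hU)) (hy : (emb p chart U hU).base y ∈ V) :
    GrMod.val (V := pre p chart U hU V) (c • a : Γ(chartMod ℳ n p chart U hU, V)) ⟨y, hy⟩ =
      fv p chart U hU c y hy • GrMod.val (V := pre p chart U hU V) a ⟨y, hy⟩ :=
  val_smulM (V := pre p chart U hU V) _ _ _

/-- The bilinear product on a chart. -/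
def pairBil (V : P.Opens) :
    Γ(F, V) →ₗ[Γ(P, V)] Γ(L, V) →ₗ[Γ(P, V)] Γ(chartMod ℳ n p chart U hU, V) :=
  LinearMap.mk₂ Γ(P, V) (pairFun lam lamL U hU V)
    (fun a b s ↦ chart_ext fun y hy ↦ by
      refine (val_pairFun lam lamL U hU V _ s y hy).trans ?_
      rw [mv_add, smul_add]; rfl)
    (fun c a s ↦ chart_ext fun y hy ↦ by
      refine (val_pairFun lam lamL U hU V _ s y hy).trans ?_
      refine Eq.trans ?_ (val_smul_chart U hU V c _ y hy).symm
      rw [mv_smul, val_pairFun, smul_comm])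
    (fun a s s' ↦ chart_ext fun y hy ↦ by
      refine (val_pairFun lam lamL U hU V a _ y hy).trans ?_
      rw [tv_add, add_smul]; rfl)
    (fun c a s ↦ chart_ext fun y hy ↦ by
      refine (val_pairFun lam lamL U hU V a _ y hy).trans ?_
      refine Eq.trans ?_ (val_smul_chart U hU V c _ y hy).symm
      rw [tv_smul, val_pairFun, mul_smul])

/-- The product on the presheaf tensor product. -/
def pairPre : Props.GenTensor.pre F L ⟶
    (PresheafOfModules.restrictScalars (𝟙 P.ringCatSheaf.obj)).obj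
      (chartMod ℳ n p chart U hU).val :=
  PresheafOfModules.homMk
    { app := fun V => AddCommGrpCat.ofHom
        (TensorProduct.lift (pairBil lam lamL U hU V.unop)).toAddMonoidHom
      naturality := fun {V W} i => by
        ext (z : Γ(F, V.unop) ⊗[Γ(P, V.unop)] Γ(L, V.unop))
        induction z using TensorProduct.induction_on with
        | zero => exact (map_zero _).trans (map_zero _).symm
        | tmul a b =>
          refine chart_ext (ℳ := ℳ) (n := n) (U := U) (hU := hU) (W := W.unop) fun y hy ↦ ?_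
          change tv lamL U hU (QCoh.res L i.unop.le b) y hy • mv U hU lam (QCoh.res F i.unop.le a) y hy = _
          rw [tv_res, show mv U hU lam (QCoh.res F i.unop.le a) y hy = mv U hU lam a y (i.unop.le hy) from
            congrArg (fun t ↦ GrMod.val (V := pre p chart U hU W.unop) t ⟨y, hy⟩)
              (QCoh.app_res (lam U hU) i.unop.le a)]
          rfl
        | add a b ha hb => exact (map_add _ a b).trans ((congrArg₂ (· + ·) ha hb).trans (map_add _ a b).symm) }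
    (fun V r z => map_smul (TensorProduct.lift (pairBil lam lamL U hU V.unop))
      (show Γ(P, V.unop) from r)
      (show Γ(F, V.unop) ⊗[Γ(P, V.unop)] Γ(L, V.unop) from z))

/-- The product morphism on a chart. -/
def pairHom : CohB1.tensorMod F L ⟶ chartMod ℳ n p chart U hU :=
  ((PresheafOfModules.sheafificationAdjunction (𝟙 P.ringCatSheaf.obj)).homEquiv _ _).symm
    (pairPre lam lamL U hU)

lemma pairHom_tmul {V : P.Opens} (t : Γ(F, V)) (s : Γ(L, V)) :
    (pairHom lam lamL U hU).app V (tmul t s) = pairFun lam lamL U hU V t s := by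
  have h' : ((PresheafOfModules.sheafificationAdjunction (𝟙 P.ringCatSheaf.obj)).homEquiv _ _)
      (pairHom lam lamL U hU) = pairPre lam lamL U hU := Equiv.apply_symm_apply _ _
  exact congrArg (fun φ : Props.GenTensor.pre F L ⟶
      (PresheafOfModules.restrictScalars (𝟙 P.ringCatSheaf.obj)).obj (chartMod ℳ n p chart U hU).val =>
      (φ.app (op V)).hom (show (Props.GenTensor.pre F L).obj (op V)
        from (t ⊗ₜ[Γ(P, V)] s : Γ(F, V) ⊗[Γ(P, V)] Γ(L, V)))) h'

omit lam lamL U hU in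
/-- Morphisms out of a tensor product are determined by pure tensors. -/
lemma hom_ext_tmul {G : P.Modules} {φ ψ : CohB1.tensorMod F L ⟶ G}
    (h : ∀ (V : P.Opens) (t : Γ(F, V)) (s : Γ(L, V)), φ.app V (tmul t s) = ψ.app V (tmul t s)) :
    φ = ψ := by
  apply ((PresheafOfModules.sheafificationAdjunction (𝟙 P.ringCatSheaf.obj)).homEquiv _ _).injective
  refine PresheafOfModules.hom_ext fun V ↦ ModuleCat.hom_ext (LinearMap.ext fun z ↦ ?_)
  induction (show Γ(F, V.unop) ⊗[Γ(P, V.unop)] Γ(L, V.unop) from z) using TensorProduct.induction_on with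
  | zero => exact (map_zero _).trans (map_zero _).symm
  | tmul a b => exact h V.unop a b
  | add a b ha hb => exact (map_add _ a b).trans ((congrArg₂ (· + ·) ha hb).trans (map_add _ a b).symm)

variable {lam lamL}

omit U hU in
lemma compat_pairHom (hP : IsRelProj 𝒮 p chart) (hF : IsRelTilde 𝒮 p chart ℳ 0 F lam)
    (hL : IsRelTwist 𝒮 p chart n L lamL) :
    Compat ℳ n fun U hU ↦ pairHom lam lamL U hU := by
  intro U hU r W z y hy hy'
  have key : pairHom lam lamL U hU ≫ transMap hP ℳ n hU (hU.basicOpen r) (Y.basicOpen_le r) =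
      pairHom lam lamL (Y.basicOpen r) (hU.basicOpen r) := by
    refine hom_ext_tmul fun V t s ↦ chart_ext fun x hx ↦ ?_
    change GrMod.val (V := pre p chart (Y.basicOpen r) (hU.basicOpen r) V)
      ((transMap hP ℳ n hU (hU.basicOpen r) (Y.basicOpen_le r)).app V
        ((pairHom lam lamL U hU).app V (tmul t s))) ⟨x, hx⟩ = _
    rw [pairHom_tmul, pairHom_tmul, val_trans, val_pairFun, val_pairFun, GrMod.locModMap_smul]
    exact congrArg₂ (· • ·) (hL.compat U hU r V s x hx _).symm (hF.compat U hU r V t x hx _).symm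
  exact (congrArg (fun t ↦ GrMod.val (V := pre p chart (Y.basicOpen r) (hU.basicOpen r) W) t ⟨y, hy⟩)
    (congr(($key).app W z))).symm

/-- `(ℳ(n))~ ≅ ℳ~ ⊗ O(n)` for algebras generated in degree one. -/
theorem nonempty_shift_iso {F' : P.Modules}
    {lam' : ∀ (U : Y.Opens) (hU : IsAffineOpen U),
      F' ⟶ (Scheme.Modules.pushforward (emb p chart U hU)).obj (GrMod.tilde (𝒮.deg U hU) (ℳ.deg U hU) n)}
    (hP : IsRelProj 𝒮 p chart) (hgen : 𝒮.IsGenDegOne) (hF : IsRelTilde 𝒮 p chart ℳ 0 F lam)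
    (hF' : IsRelTilde 𝒮 p chart ℳ n F' lam') (hL : IsRelTwist 𝒮 p chart n L lamL) :
    Nonempty (F' ≅ CohB1.tensorMod F L) := by
  obtain ⟨φ, hφ, -⟩ := existsUnique_hom hP (compat_pairHom hP hF hL) hF'
  have : IsIso φ := LFFrame.isIso_of_locally_bijective φ fun x ↦ by
    obtain ⟨U, hU, g, hg, hxg⟩ := exists_deg_one_chart (chart := chart) hgen x
    set W := emb p chart U hU ''ᵁ Proj.basicOpen (𝒮.deg U hU) g
    have hW : W ≤ p ⁻¹ᵁ U := image_le_preimage hU _
    obtain ⟨e, hge, he⟩ := exists_gen_pow hL hU hg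
    refine ⟨W, hxg, fun V hV ↦ ?_⟩
    refine (Function.Bijective.of_comp_iff _ (AmpleLib.tmul_gen_bijective hge F hV)).mp ?_
    refine (Function.Bijective.of_comp_iff' (hF'.bijective U hU V (hV.trans hW)) _).mp ?_
    have hnin : ∀ y : ProjectiveSpectrum (𝒮.deg U hU), y ∈ pre p chart U hU V →
        g ∉ y.asHomogeneousIdeal := fun y hy ↦ (mem_image_dPlus_iff g y).mp (hV hy)
    let e₀ : Γ(GrTwist.twist (𝒮.deg U hU) n, pre p chart U hU V) :=
      (lamL U hU).app V (QCoh.res L hV e)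
    let e₁ : Γ(GrTwist.twist (𝒮.deg U hU) (-n), pre p chart U hU V) :=
      fracT (pow_mem_deg' hg (-n).toNat) (pow_mem_deg' hg n.toNat) (by push_cast; omega)
        fun y hy ↦ pow_nin (hnin y hy) _
    have hb : Function.Bijective (actG (ℳ := ℳ.deg U hU) (show n + 0 = n by omega) e₀) :=
      bijective_actG _ e₀ e₁ fun y ↦ by
        obtain ⟨hb', h1⟩ := he y.1 (hV y.2)
        have h2 : GrTwist.val e₀ y =
            Localization.mk (g ^ n.toNat) ⟨g ^ (-n).toNat, hb'⟩ :=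
          (tv_res U hU hV e y.1 y.2).trans h1
        rw [h2, show GrTwist.val e₁ y = _ from val_fracT _ _ _ _ y.1 y.2, Localization.mk_mul,
          ← Localization.mk_one, Localization.mk_eq_mk_iff, Localization.r_iff_exists]
        exact ⟨1, by simp only [Submonoid.coe_mul, OneMemClass.coe_one]; ring⟩
    have h3 := hb.comp (hF.bijective U hU V (hV.trans hW))
    refine Eq.mpr (congrArg Function.Bijective (funext fun t ↦ ?_)) h3
    change (φ ≫ lam' U hU).app V (tmul t (QCoh.res L hV e)) = _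
    rw [hφ U hU, pairHom_tmul]
    rfl
  exact ⟨(asIso φ).symm⟩

end Groth.Agent.RelTildeLib
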