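import Groth.Agent.RelTildeLib.TwistGen
import Groth.Agent.GrBC.TwistPush
import Groth.Agent.Omega.Stalks

/-!
Twisting sheaves and base change.
-/

universe u

open CategoryTheory CategoryTheory.Limits AlgebraicGeometry Opposite TopologicalSpace
open scoped HomogeneousIdeal

noncomputable section

namespace Groth.Agent.RelTildeLib

open GrModLib RelProj

section Comm

variable {A₁ A₂ A₃ A₄ σ₁ σ₂ σ₃ σ₄ : Type u} [CommRing A₁] [CommRing A₂] [CommRing A₃] [CommRing A₄]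
  [SetLike σ₁ A₁] [AddSubgroupClass σ₁ A₁] [SetLike σ₂ A₂] [AddSubgroupClass σ₂ A₂]
  [SetLike σ₃ A₃] [AddSubgroupClass σ₃ A₃] [SetLike σ₄ A₄] [AddSubgroupClass σ₄ A₄]
  {𝒜₁ : ℕ → σ₁} {𝒜₂ : ℕ → σ₂} {𝒜₃ : ℕ → σ₃} {𝒜₄ : ℕ → σ₄}
  [GradedRing 𝒜₁] [GradedRing 𝒜₂] [GradedRing 𝒜₃] [GradedRing 𝒜₄]

/-- Values pulled along a commutative square agree. -/
lemma locMap_comm (a : 𝒜₁ →+*ᵍ 𝒜₂) (ha : (𝒜₂)₊ ≤ ((𝒜₁)₊).map a)
    (b : 𝒜₂ →+*ᵍ 𝒜₄) (hb : (𝒜₄)₊ ≤ ((𝒜₂)₊).map b)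
    (c : 𝒜₁ →+*ᵍ 𝒜₃) (hc : (𝒜₃)₊ ≤ ((𝒜₁)₊).map c)
    (e : 𝒜₃ →+*ᵍ 𝒜₄) (he : (𝒜₄)₊ ≤ ((𝒜₃)₊).map e)
    (h : ∀ r, b (a r) = e (c r)) {n : ℤ} {V : (Proj 𝒜₁).Opens} (t : Γ(GrTwist.twist 𝒜₁ n, V))
    (z : ProjectiveSpectrum 𝒜₄)
    (h1 : ProjectiveSpectrum.comap a ha (ProjectiveSpectrum.comap b hb z) ∈ V)
    (h2 : ProjectiveSpectrum.comap c hc (ProjectiveSpectrum.comap e he z) ∈ V) :
    GrTwist.locMap b hb z (GrTwist.locMap a ha _ (GrTwist.val t ⟨_, h1⟩)) =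
      GrTwist.locMap e he z (GrTwist.locMap c hc _ (GrTwist.val t ⟨_, h2⟩)) := by
  obtain ⟨V', hle, hzV, i, j, m, s, hs, -, w⟩ := exists_fracT t ⟨_, h1⟩
  have hxy : ProjectiveSpectrum.comap c hc (ProjectiveSpectrum.comap e he z) =
      ProjectiveSpectrum.comap a ha (ProjectiveSpectrum.comap b hb z) := by
    refine ProjectiveSpectrum.ext (HomogeneousIdeal.ext (SetLike.ext fun r ↦ ?_))
    change e (c r) ∈ z.asHomogeneousIdeal ↔ b (a r) ∈ z.asHomogeneousIdeal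
    rw [h r]
  have gen : ∀ x (_ : x = ProjectiveSpectrum.comap a ha (ProjectiveSpectrum.comap b hb z))
      (hx : x ∈ V), ∃ hs', GrTwist.val t ⟨x, hx⟩ = Localization.mk (m : A₁) ⟨(s : A₁), hs'⟩ := by
    rintro x rfl hx
    exact ⟨_, w ⟨_, hzV⟩⟩
  obtain ⟨_, e2⟩ := gen _ hxy h2
  rw [show GrTwist.val t ⟨_, h1⟩ = _ from w ⟨_, hzV⟩, e2, GrTwist.locMap_mk, GrTwist.locMap_mk,
    GrTwist.locMap_mk, GrTwist.locMap_mk]
  exact congrArg₂ Localization.mk (h m) (Subtype.ext (h s))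

end Comm

variable {Y Y' P P' : Scheme.{u}} {ψ : Y' ⟶ Y} {𝒮 : QCGrAlg Y} {𝒮' : QCGrAlg Y'}
  (u : 𝒮.presheaf ⟶ ψ.base _* 𝒮'.presheaf)
  {φ : ∀ (U : Y.Opens) (hU : IsAffineOpen U) (U' : Y'.Opens) (hU' : IsAffineOpen U') (_ : U' ≤ ψ ⁻¹ᵁ U),
    𝒮.deg U hU →+*ᵍ 𝒮'.deg U' hU'}
  (hφ : ∀ (U : Y.Opens) (hU : IsAffineOpen U) (U' : Y'.Opens) (hU' : IsAffineOpen U') (hle : U' ≤ ψ ⁻¹ᵁ U),
    (φ U hU U' hU' hle).toRingHom =
      ((u.app (op U) : 𝒮.presheaf.obj (op U) ⟶ 𝒮'.presheaf.obj (op (ψ ⁻¹ᵁ U))) ≫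
        𝒮'.presheaf.map (homOfLE hle).op).hom)
  (hirr : ∀ (U : Y.Opens) (hU : IsAffineOpen U) (U' : Y'.Opens) (hU' : IsAffineOpen U') (hle : U' ≤ ψ ⁻¹ᵁ U),
    (𝒮'.deg U' hU')₊ ≤ ((𝒮.deg U hU)₊).map (φ U hU U' hU' hle))

include hφ in
lemma phi_res {U D : Y.Opens} {hU : IsAffineOpen U} {hD : IsAffineOpen D} {U' D' : Y'.Opens}
    {hU' : IsAffineOpen U'} {hD' : IsAffineOpen D'} (hle : U' ≤ ψ ⁻¹ᵁ U) (hle' : D' ≤ ψ ⁻¹ᵁ D)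
    (i : D ≤ U) (i' : D' ≤ U') (a : 𝒮.presheaf.obj (op U)) :
    𝒮'.res hU' hD' i' (φ U hU U' hU' hle a) = φ D hD D' hD' hle' (𝒮.res hU hD i a) := by
  have e1 : φ U hU U' hU' hle a = (𝒮'.presheaf.map (homOfLE hle).op).hom ((u.app (op U)).hom a) :=
    congr($(hφ U hU U' hU' hle) a)
  have e2 : ∀ b, φ D hD D' hD' hle' b = (𝒮'.presheaf.map (homOfLE hle').op).hom ((u.app (op D)).hom b) :=
    fun b ↦ congr($(hφ D hD D' hD' hle') b)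
  rw [e1, e2]
  have hn : (u.app (op D)).hom ((𝒮.presheaf.map (homOfLE i).op).hom a) =
      (𝒮'.presheaf.map (homOfLE (ψ.preimage_mono i)).op).hom ((u.app (op U)).hom a) :=
    congr($(u.naturality (homOfLE i).op).hom a)
  change (𝒮'.presheaf.map (homOfLE i').op).hom _ = (𝒮'.presheaf.map (homOfLE hle').op).hom _
  rw [QCGrAlg.res_apply, hn]
  have key : 𝒮'.presheaf.map (homOfLE hle).op ≫ 𝒮'.presheaf.map (homOfLE i').op =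
      𝒮'.presheaf.map (homOfLE (ψ.preimage_mono i)).op ≫ 𝒮'.presheaf.map (homOfLE hle').op := by
    rw [← Functor.map_comp, ← Functor.map_comp]
    rfl
  exact congr($(key).hom ((u.app (op U)).hom a))

lemma exists_basic_below {U V : Y'.Opens} (hU : IsAffineOpen U) (hV : IsAffineOpen V) (O : Y'.Opens)
    {x : Y'} (hx : x ∈ U ⊓ V) (hxO : x ∈ O) :
    ∃ (D : Y'.Opens) (r : Γ(Y', U)) (s : Γ(Y', V)),
      Y'.basicOpen r = D ∧ Y'.basicOpen s = D ∧ x ∈ D ∧ D ≤ O := by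
  obtain ⟨r, s, e, hxr⟩ := exists_basicOpen_le_affine_inter hU hV x hx
  obtain ⟨c, hc, hxc⟩ := (hU.basicOpen r).exists_basicOpen_le ⟨x, hxO⟩ hxr
  obtain ⟨r', hr'⟩ := hU.basicOpen_basicOpen_is_basicOpen r c
  have key : ∀ (D : Y'.Opens) (_ : D = Y'.basicOpen s) (c : Γ(Y', D)),
      ∃ s' : Γ(Y', V), Y'.basicOpen s' = Y'.basicOpen c := by
    rintro D rfl c
    exact hV.basicOpen_basicOpen_is_basicOpen s c
  obtain ⟨s', hs'⟩ := key _ e c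
  exact ⟨_, r', s', hr', hs', hxc, hc⟩

variable {p : P ⟶ Y}
  {chart : ∀ (U : Y.Opens) (hU : IsAffineOpen U), (((p ⁻¹ᵁ U : P.Opens) : Scheme.{u}) ≅ Proj (𝒮.deg U hU))}
  {p' : P' ⟶ Y'}
  {chart' : ∀ (U' : Y'.Opens) (hU' : IsAffineOpen U'), (((p' ⁻¹ᵁ U' : P'.Opens) : Scheme.{u}) ≅ Proj (𝒮'.deg U' hU'))}
  {g : P' ⟶ P}
  (hg : ∀ (U : Y.Opens) (hU : IsAffineOpen U) (U' : Y'.Opens) (hU' : IsAffineOpen U') (hle : U' ≤ ψ ⁻¹ᵁ U),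
    (p' ⁻¹ᵁ U').ι ≫ g =
      (chart' U' hU').hom ≫ Proj.map (φ U hU U' hU' hle) (hirr U hU U' hU' hle) ≫ emb p chart U hU)
  {n : ℤ} {L : P.Modules}
  {lam : ∀ (U : Y.Opens) (hU : IsAffineOpen U),
    L ⟶ (Scheme.Modules.pushforward (emb p chart U hU)).obj (GrTwist.twist (𝒮.deg U hU) n)}
  {L' : P'.Modules}
  {lam' : ∀ (U' : Y'.Opens) (hU' : IsAffineOpen U'),
    L' ⟶ (Scheme.Modules.pushforward (emb p' chart' U' hU')).obj (GrTwist.twist (𝒮'.deg U' hU') n)}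

include hg in
lemma emb_comp_g {U : Y.Opens} (hU : IsAffineOpen U) {U' : Y'.Opens} (hU' : IsAffineOpen U')
    (hle : U' ≤ ψ ⁻¹ᵁ U) :
    emb p' chart' U' hU' ≫ g = Proj.map (φ U hU U' hU' hle) (hirr U hU U' hU' hle) ≫ emb p chart U hU := by
  rw [emb, Category.assoc, hg U hU U' hU' hle, Iso.inv_hom_id_assoc]

include hg in
lemma emb_g_mem {U : Y.Opens} (hU : IsAffineOpen U) {U' : Y'.Opens} (hU' : IsAffineOpen U')
    (hle : U' ≤ ψ ⁻¹ᵁ U) {W : P.Opens} (y : ProjectiveSpectrum (𝒮'.deg U' hU'))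
    (hy : (emb p' chart' U' hU').base y ∈ g ⁻¹ᵁ W) :
    (emb p chart U hU).base (ProjectiveSpectrum.comap _ (hirr U hU U' hU' hle) y) ∈ W :=
  GrBC.base_map (emb_comp_g hirr hg hU hU' hle) y ▸ hy

/-- `t` is the pullback of `s`. -/
def PB (lam : ∀ (U : Y.Opens) (hU : IsAffineOpen U),
      L ⟶ (Scheme.Modules.pushforward (emb p chart U hU)).obj (GrTwist.twist (𝒮.deg U hU) n))
    (lam' : ∀ (U' : Y'.Opens) (hU' : IsAffineOpen U'),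
      L' ⟶ (Scheme.Modules.pushforward (emb p' chart' U' hU')).obj (GrTwist.twist (𝒮'.deg U' hU') n))
    {W : P.Opens} (s : Γ(L, W)) (t : Γ(L', g ⁻¹ᵁ W)) : Prop :=
  ∀ (U : Y.Opens) (hU : IsAffineOpen U) (U' : Y'.Opens) (hU' : IsAffineOpen U') (hle : U' ≤ ψ ⁻¹ᵁ U)
    y (hy : (emb p' chart' U' hU').base y ∈ g ⁻¹ᵁ W)
    (hy' : (emb p chart U hU).base (ProjectiveSpectrum.comap _ (hirr U hU U' hU' hle) y) ∈ W),
    tv lam' U' hU' t y hy =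
      GrTwist.locMap (φ U hU U' hU' hle) (hirr U hU U' hU' hle) y (tv lam U hU s _ hy')

include hg in
lemma PB.unique (hL' : IsRelTwist 𝒮' p' chart' n L' lam') {W : P.Opens} {s : Γ(L, W)}
    {t t' : Γ(L', g ⁻¹ᵁ W)} (h : PB hirr lam lam' s t) (h' : PB hirr lam lam' s t') : t = t' := by
  refine eq_of_locally_tv hL' _ _ fun x _ ↦ ?_
  obtain ⟨U, hU, hxU⟩ := exists_affine_mem (p := 𝟙 Y) (ψ (p' x))
  obtain ⟨_, ⟨U', hU', rfl⟩, hxU', hle⟩ := Y'.isBasis_affineOpens.exists_subset_of_mem_open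
    (show p' x ∈ (ψ ⁻¹ᵁ U : Set Y') from hxU) (ψ ⁻¹ᵁ U).2
  exact ⟨U', hU', hxU', fun y hy ↦
    (h U hU U' hU' hle y hy (emb_g_mem hirr hg hU hU' hle y hy)).trans
      (h' U hU U' hU' hle y hy (emb_g_mem hirr hg hU hU' hle y hy)).symm⟩

variable (hP : IsRelProj 𝒮 p chart) (hP' : IsRelProj 𝒮' p' chart')
  (hL : IsRelTwist 𝒮 p chart n L lam) (hL' : IsRelTwist 𝒮' p' chart' n L' lam')

include hφ hg hP hP' hL hL' in
/-- The value rule on a pair of charts passes to pairs of basic opens. -/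
lemma pb_basic {W : P.Opens} {O : P'.Opens} (hO : O ≤ g ⁻¹ᵁ W) (s : Γ(L, W)) (t : Γ(L', O))
    {U D : Y.Opens} (hU : IsAffineOpen U) (hD : IsAffineOpen D) {U' D' : Y'.Opens}
    (hU' : IsAffineOpen U') (hD' : IsAffineOpen D') (hle : U' ≤ ψ ⁻¹ᵁ U) (hle' : D' ≤ ψ ⁻¹ᵁ D)
    (i : D ≤ U) (r : Γ(Y, U)) (er : Y.basicOpen r = D)
    (i' : D' ≤ U') (r' : Γ(Y', U')) (er' : Y'.basicOpen r' = D')
    (h : ∀ y hy hy', tv lam' U' hU' t y hy =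
      GrTwist.locMap (φ U hU U' hU' hle) (hirr U hU U' hU' hle) y (tv lam U hU s _ hy'))
    (y : ProjectiveSpectrum (𝒮'.deg D' hD')) (hy : (emb p' chart' D' hD').base y ∈ O)
    (hy' : (emb p chart D hD).base (ProjectiveSpectrum.comap _ (hirr D hD D' hD' hle') y) ∈ W) :
    tv lam' D' hD' t y hy =
      GrTwist.locMap (φ D hD D' hD' hle') (hirr D hD D' hD' hle') y (tv lam D hD s _ hy') := by
  obtain ⟨h1, hy1, e1⟩ := tv_basic hL' hP' hU' hD' i' r' er' t y hy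
  obtain ⟨h2, hy2, e2⟩ := tv_basic hL hP hU hD i r er s _ hy'
  have hy3 := emb_g_mem hirr hg hU hU' hle _ (hO hy1)
  refine e1.trans (Eq.trans ?_ (congrArg (GrTwist.locMap _ (hirr D hD D' hD' hle') y) e2).symm)
  refine (congrArg (GrTwist.locMap _ h1 y) (h _ hy1 hy3)).trans ?_
  exact locMap_comm _ (hirr U hU U' hU' hle) _ h1 _ h2 _ (hirr D hD D' hD' hle')
    (fun a ↦ phi_res u hφ hle hle' i i' a) (V := pre p chart U hU W) ((lam U hU).app W s) y hy3 hy2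

include hg hL' in
lemma exists_PB_chart {W : P.Opens} (s : Γ(L, W)) {U : Y.Opens} (hU : IsAffineOpen U) {U' : Y'.Opens}
    (hU' : IsAffineOpen U') (hle : U' ≤ ψ ⁻¹ᵁ U) :
    ∃ t : Γ(L', g ⁻¹ᵁ W ⊓ p' ⁻¹ᵁ U'), ∀ y hy hy', tv lam' U' hU' t y hy =
      GrTwist.locMap (φ U hU U' hU' hle) (hirr U hU U' hU' hle) y (tv lam U hU s _ hy') := by
  let s₀ : GrTwist.sectN (𝒜 := 𝒮.deg U hU) n (op (pre p chart U hU W)) := (lam U hU).app W s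
  let t₀ : GrTwist.sectN (𝒜 := 𝒮'.deg U' hU') n
      (op (pre p' chart' U' hU' (g ⁻¹ᵁ W ⊓ p' ⁻¹ᵁ U'))) :=
    GrTwist.comapApp (φ U hU U' hU' hle) (hirr U hU U' hU' hle) n (pre p chart U hU W)
      (pre p' chart' U' hU' (g ⁻¹ᵁ W ⊓ p' ⁻¹ᵁ U'))
      (fun y hy ↦ emb_g_mem hirr hg hU hU' hle y hy.1) s₀
  obtain ⟨t, ht⟩ := (hL'.bijective U' hU' _ (inf_le_right : g ⁻¹ᵁ W ⊓ p' ⁻¹ᵁ U' ≤ _)).2 t₀
  exact ⟨t, fun y hy hy' ↦ congrArg (fun c ↦ GrTwist.val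
    (V := pre p' chart' U' hU' (g ⁻¹ᵁ W ⊓ p' ⁻¹ᵁ U')) c ⟨y, hy⟩) ht⟩

include hφ hg hP hP' hL hL' in
lemma exists_PB (W : P.Opens) (s : Γ(L, W)) : ∃ t : Γ(L', g ⁻¹ᵁ W), PB hirr lam lam' s t := by
  let ι := {q : Y'.affineOpens × Y.affineOpens // q.1.1 ≤ ψ ⁻¹ᵁ q.2.1}
  have hcov : g ⁻¹ᵁ W ≤ ⨆ q : ι, g ⁻¹ᵁ W ⊓ p' ⁻¹ᵁ q.1.1.1 := fun x hx ↦ by
    obtain ⟨U, hU, hxU⟩ := exists_affine_mem (p := 𝟙 Y) (ψ (p' x))
    obtain ⟨_, ⟨U', hU', rfl⟩, hxU', hle⟩ := Y'.isBasis_affineOpens.exists_subset_of_mem_open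
      (show p' x ∈ (ψ ⁻¹ᵁ U : Set Y') from hxU) (ψ ⁻¹ᵁ U).2
    exact Opens.mem_iSup.mpr ⟨⟨(⟨U', hU'⟩, ⟨U, hU⟩), hle⟩, hx, hxU'⟩
  have H : ∀ q : ι, ∃ t : Γ(L', g ⁻¹ᵁ W ⊓ p' ⁻¹ᵁ q.1.1.1), ∀ y hy hy',
      tv lam' q.1.1.1 q.1.1.2 t y hy =
        GrTwist.locMap (φ q.1.2.1 q.1.2.2 q.1.1.1 q.1.1.2 q.2) (hirr _ _ _ _ q.2) y
          (tv lam q.1.2.1 q.1.2.2 s _ hy') := fun q ↦ exists_PB_chart hirr hg hL' s q.1.2.2 q.1.1.2 q.2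
  choose t ht using H
  obtain ⟨t₀, ht₀⟩ := QCoh.exists_glue L' (fun _ ↦ inf_le_left) hcov t fun q₁ q₂ ↦ by
    refine eq_of_locally_tv hL' _ _ fun x hx ↦ ?_
    obtain ⟨r, r₂, er, hxr⟩ := exists_basicOpen_le_affine_inter q₁.1.2.2 q₂.1.2.2 (ψ (p' x))
      ⟨q₁.2 hx.1.2, q₂.2 hx.2.2⟩
    obtain ⟨D', r', r₂', er', er₂', hxD', hD'le⟩ :=
      exists_basic_below q₁.1.1.2 q₂.1.1.2 (ψ ⁻¹ᵁ Y.basicOpen r) (x := p' x) ⟨hx.1.2, hx.2.2⟩ hxr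
    have hD' : IsAffineOpen D' := er' ▸ q₁.1.1.2.basicOpen r'
    refine ⟨D', hD', hxD', fun y hy ↦ ?_⟩
    rw [tv_res, tv_res]
    have hy' := emb_g_mem hirr hg (q₁.1.2.2.basicOpen r) hD' hD'le y hy.1.1
    exact (pb_basic u hφ hirr hg hP hP' hL hL' inf_le_left s (t q₁) q₁.1.2.2
        (q₁.1.2.2.basicOpen r) q₁.1.1.2 hD' q₁.2 hD'le (Y.basicOpen_le r) r rfl
        (er' ▸ Y'.basicOpen_le r') r' er' (ht q₁) y hy.1 hy').trans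
      (pb_basic u hφ hirr hg hP hP' hL hL' inf_le_left s (t q₂) q₂.1.2.2
        (q₁.1.2.2.basicOpen r) q₂.1.1.2 hD' q₂.2 hD'le (er ▸ Y.basicOpen_le r₂) r₂ er.symm
        (er₂' ▸ Y'.basicOpen_le r₂') r₂' er₂' (ht q₂) y hy.2 hy').symm
  refine ⟨t₀, fun U hU U' hU' hle y hy hy' ↦ ?_⟩
  have hy2 : (emb p' chart' U' hU').base y ∈ g ⁻¹ᵁ W ⊓ p' ⁻¹ᵁ U' := ⟨hy, emb_mem U' hU' y⟩
  rw [← tv_res U' hU' inf_le_left t₀ y hy2]
  refine (congrArg (fun c ↦ tv lam' U' hU' c y hy2) (ht₀ ⟨(⟨U', hU'⟩, ⟨U, hU⟩), hle⟩)).trans ?_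
  exact ht ⟨(⟨U', hU'⟩, ⟨U, hU⟩), hle⟩ y hy2 hy'

include hφ hg hP hP' hL hL' in
/-- The pullback morphism `O(n) ⟶ g_* O'(n)`. -/
lemma exists_push :
    ∃ θ : L ⟶ (Scheme.Modules.pushforward g).obj L',
      ∀ (W : P.Opens) (s : Γ(L, W)), PB (g := g) hirr lam lam' s (θ.app W s) := by
  choose t ht using exists_PB u hφ hirr hg hP hP' hL hL'
  have hres : ∀ (W W₂ : P.Opens) (hle : W₂ ≤ W) (s : Γ(L, W)),
      t W₂ (QCoh.res L hle s) = QCoh.res L' (g.preimage_mono hle) (t W s) := fun W W₂ hle s ↦ by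
    refine PB.unique hirr hg hL' (ht W₂ _) fun U hU U' hU' hle' y hy hy' ↦ ?_
    rw [tv_res, tv_res]
    exact ht W s U hU U' hU' hle' y _ _
  let T : ∀ W : P.Opens, Γ(L, W) →+ Γ(L', g ⁻¹ᵁ W) := fun W ↦ AddMonoidHom.mk' (t W) fun s s' ↦
    PB.unique hirr hg hL' (ht W _) fun U hU U' hU' hle y hy hy' ↦ by
      refine (GrBC.Chart.cv_add _ (lam' U' hU') _ _ y hy).trans ?_
      rw [show tv lam U hU (s + s') _ hy' = _ from GrBC.Chart.cv_add _ (lam U hU) s s' _ hy', map_add]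
      exact congrArg₂ (· + ·) (ht W s U hU U' hU' hle y hy hy') (ht W s' U hU U' hU' hle y hy hy')
  refine ⟨⟨PresheafOfModules.homMk
    { app := fun W ↦ AddCommGrpCat.ofHom (T W.unop)
      naturality := fun W W₂ i ↦ by ext s; exact hres W.unop W₂.unop i.unop.le s }
    fun W (r : Γ(P, W.unop)) (s : Γ(L, W.unop)) ↦ ?_⟩, fun W s ↦ ht W s⟩
  refine PB.unique (W := W.unop) hirr hg hL' (ht W.unop (r • s)) (t' := (g.app W.unop r • t W.unop s :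
    Γ(L', g ⁻¹ᵁ W.unop))) fun U hU U' hU' hle y hy hy' ↦ ?_
  rw [tv_smul, tv_smul, map_mul, ht W.unop s U hU U' hU' hle y hy hy']
  refine congrArg (· * _) ?_
  have h1 := congr($(Scheme.Hom.congr_app (emb_comp_g hirr hg hU hU' hle) W.unop).hom r)
  exact (congrArg (fun c ↦ funVal c y hy) h1).trans (HomogeneousLocalization.val_localRingHom _)

include hφ hg hP hP' hL hL' in
/-- `g^* O(n) ≅ O'(n)`. -/
theorem nonempty_pullback_twist_baseChange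
    (hpo : ∀ (U : Y.Opens) (hU : IsAffineOpen U) (U' : Y'.Opens) (hU' : IsAffineOpen U') (hle : U' ≤ ψ ⁻¹ᵁ U),
      IsPushout (ψ.appLE U U' hle) (𝒮.str.app (op U)) (𝒮'.str.app (op U'))
        ((u.app (op U) : 𝒮.presheaf.obj (op U) ⟶ 𝒮'.presheaf.obj (op (ψ ⁻¹ᵁ U))) ≫
          𝒮'.presheaf.map (homOfLE hle).op)) :
    Nonempty ((Scheme.Modules.pullback g).obj L ≅ L') := by
  obtain ⟨θ, hθ⟩ := exists_push u hφ hirr hg hP hP' hL hL'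
  have : IsIso (GrBC.adj θ) := Omega.Stalks.isIso_of_stalk fun x ↦ by
    obtain ⟨U, hU, hxU⟩ := exists_affine_mem (p := 𝟙 Y) (ψ (p' x))
    obtain ⟨_, ⟨U', hU', rfl⟩, hxU', hle⟩ := Y'.isBasis_affineOpens.exists_subset_of_mem_open
      (show p' x ∈ (ψ ⁻¹ᵁ U : Set Y') from hxU) (ψ ⁻¹ᵁ U).2
    obtain ⟨y, rfl⟩ := exists_emb_eq (chart := chart') U' hU' hxU'
    obtain ⟨d, f, hd, hf, hfy⟩ := exists_pos_nin
      (ProjectiveSpectrum.comap (φ U hU U' hU' hle) (hirr U hU U' hU' hle)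
        (show ProjectiveSpectrum (𝒮'.deg U' hU') from y))
    refine GrBC.bijective_stalkLin (lam := lam U hU) (lam' := lam' U' hU')
      (fun W hW ↦ hL.bijective U hU W (hW.trans (RelProjLib.emb_opensRange (chart := chart) U hU).le))
      (fun W hW ↦ hL'.bijective U' hU' W
        (hW.trans (RelProjLib.emb_opensRange (chart := chart') U' hU').le))
      (emb_comp_g hirr hg hU hU' hle) hf θ
      (fun W s z hz hz' ↦ hθ W s U hU U' hU' hle z hz hz')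
      (ψ.appLE U U' hle).hom (𝒮.str.app (op U)).hom (𝒮'.str.app (op U')).hom hd
      (𝒮.str_mem U hU) (𝒮'.str_mem U' hU') ?_ y hfy
    rw [hφ U hU U' hU' hle]
    exact hpo U hU U' hU' hle
  exact ⟨asIso (GrBC.adj θ)⟩

end Groth.Agent.RelTildeLib
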