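import Groth.Agent.RelTildeLib.PsiMap
import Groth.Agent.RelTildeLib.UnitModule

/-!
The morphism of relative twisting sheaves induced by a graded homomorphism of algebras.
-/

universe u

open CategoryTheory CategoryTheory.Limits AlgebraicGeometry Opposite TopologicalSpace
open scoped HomogeneousIdeal

noncomputable section

namespace Groth.Agent.RelTildeLib

open GrModLib RelProjLib RelProj

variable {Y : Scheme.{u}} {𝒜 ℬ : RelProj.QCGrAlg Y} (φ : 𝒜.toQCAlg ⟶ ℬ.toQCAlg)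
  (hφ : RelProj.IsGradedHom φ)

/-- A graded homomorphism of algebras as a semilinear map. -/
def algMap (U : Y.Opens) (hU : IsAffineOpen U) :
    (unitModule 𝒜).mod.val.obj (op U) →ₛₗ[(gradedHomAt φ hφ U hU).toRingHom]
      (unitModule ℬ).mod.val.obj (op U) where
  toFun a := gradedHomAt φ hφ U hU a
  map_add' a b := map_add (gradedHomAt φ hφ U hU).toRingHom a b
  map_smul' a b := map_mul (gradedHomAt φ hφ U hU).toRingHom a b

lemma algMap_mem (U : Y.Opens) (hU : IsAffineOpen U) (i : ℕ) (m : (unitModule 𝒜).mod.val.obj (op U))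
    (hm : m ∈ (unitModule 𝒜).deg U hU i) : algMap φ hφ U hU m ∈ (unitModule ℬ).deg U hU i :=
  (gradedHomAt φ hφ U hU).map_mem hm

lemma algMap_res (U : Y.Opens) (hU : IsAffineOpen U) (r : Γ(Y, U))
    (m : (unitModule 𝒜).mod.val.obj (op U)) :
    algMap φ hφ (Y.basicOpen r) (hU.basicOpen r)
        ((unitModule 𝒜).res hU (hU.basicOpen r) (Y.basicOpen_le r) m) =
      (unitModule ℬ).res hU (hU.basicOpen r) (Y.basicOpen_le r) (algMap φ hφ U hU m) :=
  congr($(φ.hom.naturality (homOfLE (Y.basicOpen_le r)).op).hom m)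

lemma locMap_eq_algMap (U : Y.Opens) (hU : IsAffineOpen U)
    (hψ : (ℬ.deg U hU)₊ ≤ ((𝒜.deg U hU)₊).map (gradedHomAt φ hφ U hU))
    (y : ProjectiveSpectrum (ℬ.deg U hU))
    (q : GrTwist.Loc (𝒜.deg U hU) (ProjectiveSpectrum.comap (gradedHomAt φ hφ U hU) hψ y)) :
    GrTwist.locMap (gradedHomAt φ hφ U hU) hψ y q =
      GrMod.locModMap (gradedHomAt φ hφ U hU) hψ (algMap φ hφ U hU) y q := by
  induction q using Localization.induction_on with
  | H x => exact GrTwist.locMap_mk _ _ y x.1 x.2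

/-- The sections of a twist as sections of the module of the algebra. -/
def sectEquiv (𝒮 : QCGrAlg Y) (U : Y.Opens) (hU : IsAffineOpen U) (n : ℤ)
    (V : (Opens (ProjectiveSpectrum.top (𝒮.deg U hU)))ᵒᵖ) :
    GrTwist.sectN (𝒜 := 𝒮.deg U hU) n V →+ GrMod.sect (𝒮.deg U hU) ((unitModule 𝒮).deg U hU) n V where
  toFun f := ⟨f.1, f.2⟩
  map_zero' := rfl
  map_add' _ _ := rfl

/-- A twist as the module of the algebra. -/
def toTilde (𝒮 : QCGrAlg Y) (U : Y.Opens) (hU : IsAffineOpen U) (n : ℤ) :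
    GrTwist.twist (𝒮.deg U hU) n ⟶ GrMod.tilde (𝒮.deg U hU) ((unitModule 𝒮).deg U hU) n :=
  ⟨PresheafOfModules.homMk
    { app := fun V ↦ AddCommGrpCat.ofHom (sectEquiv 𝒮 U hU n V)
      naturality := fun _ _ _ ↦ rfl }
    fun _ _ _ ↦ rfl⟩

section Bridge

variable {𝒮 : QCGrAlg Y} {P : Scheme.{u}} {p : P ⟶ Y}
  {chart : ∀ (U : Y.Opens) (hU : IsAffineOpen U), (((p ⁻¹ᵁ U : P.Opens) : Scheme.{u}) ≅ Proj (𝒮.deg U hU))}
  {n : ℤ} {L : P.Modules}
  (lam : ∀ (U : Y.Opens) (hU : IsAffineOpen U),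
    L ⟶ (Scheme.Modules.pushforward (emb p chart U hU)).obj (GrTwist.twist (𝒮.deg U hU) n))

/-- The identifications of a relative twist, read in the modules of the algebra. -/
def lamT (U : Y.Opens) (hU : IsAffineOpen U) : L ⟶ chartMod (unitModule 𝒮) n p chart U hU :=
  lam U hU ≫ (Scheme.Modules.pushforward (emb p chart U hU)).map (toTilde 𝒮 U hU n)

lemma val_lamT (U : Y.Opens) (hU : IsAffineOpen U) (W : P.Opens) (s : Γ(L, W))
    (y : ProjectiveSpectrum (𝒮.deg U hU)) (hy : (emb p chart U hU).base y ∈ W) :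
    GrMod.val (V := pre p chart U hU W) ((lamT lam U hU).app W s) ⟨y, hy⟩ =
      GrTwist.val (V := emb p chart U hU ⁻¹ᵁ W) ((lam U hU).app W s) ⟨y, hy⟩ := rfl

/-- A relative twist is the relative tilde of the algebra. -/
theorem isRelTilde_lamT (hL : IsRelTwist 𝒮 p chart n L lam) :
    IsRelTilde 𝒮 p chart (unitModule 𝒮) n L (lamT lam) := by
  refine ⟨fun U hU W hW ↦ ?_, fun U hU r W s y hy hy' ↦ ?_⟩
  · have h2 : Function.Bijective (sectEquiv 𝒮 U hU n (op (pre p chart U hU W))) :=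
      ⟨fun a b h ↦ Subtype.ext (congrArg Subtype.val h :), fun b ↦ ⟨⟨b.1, b.2⟩, rfl⟩⟩
    exact h2.comp (hL.bijective U hU W hW)
  · refine (val_lamT lam _ _ W s y hy).trans ?_
    refine Eq.trans ?_ (congrArg (GrMod.locModMap _ _ _ y) (val_lamT lam U hU W s _ hy')).symm
    exact (hL.compat U hU r W s y hy hy').trans
      (locMap_eq_locModMap hU (hU.basicOpen r) (Y.basicOpen_le r) (𝒮.irrelevant_le_map U hU r) y _)

end Bridge

end Groth.Agent.RelTildeLib
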