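import Groth.Agent.RelTildeLib.TwistGen

/-!
The open `X_f` of a global section `f` and the twisting sheaves on it.
-/

universe u

open CategoryTheory CategoryTheory.Limits AlgebraicGeometry Opposite TopologicalSpace
open scoped HomogeneousIdeal

noncomputable section

namespace Groth.Agent.RelTildeLib

open GrModLib RelProj Props.GenLocus

variable {Y P : Scheme.{u}} {𝒮 : QCGrAlg Y} {p : P ⟶ Y}
  {chart : ∀ (U : Y.Opens) (hU : IsAffineOpen U), (((p ⁻¹ᵁ U : P.Opens) : Scheme.{u}) ≅ Proj (𝒮.deg U hU))}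

/-- The restriction of a global section to an open. -/
abbrev secOn (f : 𝒮.presheaf.obj (op ⊤)) (U : Y.Opens) : 𝒮.presheaf.obj (op U) :=
  (𝒮.presheaf.map (homOfLE le_top).op).hom f

lemma secOn_res (f : 𝒮.presheaf.obj (op ⊤)) {U D : Y.Opens} (i : D ≤ U) :
    (𝒮.presheaf.map (homOfLE i).op).hom (secOn f U) = secOn f D := by
  rw [secOn, secOn, ← CategoryTheory.comp_apply, ← Functor.map_comp]
  rfl

variable {f : 𝒮.presheaf.obj (op ⊤)} {Xf : P.Opens}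
  (hXf : ∀ (U : Y.Opens) (hU : IsAffineOpen U),
    Xf ⊓ p ⁻¹ᵁ U = (p ⁻¹ᵁ U).ι ''ᵁ ((chart U hU).hom ⁻¹ᵁ Proj.basicOpen (𝒮.deg U hU) (secOn f U)))

include hXf in
lemma emb_mem_Xf_iff {U : Y.Opens} (hU : IsAffineOpen U) (y : ProjectiveSpectrum (𝒮.deg U hU)) :
    (emb p chart U hU).base y ∈ Xf ↔ secOn f U ∉ y.asHomogeneousIdeal := by
  have e1 : (chart U hU).hom.base ((chart U hU).inv.base y) = y :=
    congr($((chart U hU).inv_hom_id).base y)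
  have h : (emb p chart U hU).base y ∈ Xf ↔
      (chart U hU).hom.base ((chart U hU).inv.base y) ∈
        Proj.basicOpen (𝒮.deg U hU) (secOn f U) := by
    refine ⟨fun h ↦ ?_, fun h ↦ ?_⟩
    · have h' : (emb p chart U hU).base y ∈ Xf ⊓ p ⁻¹ᵁ U := ⟨h, emb_mem U hU y⟩
      rw [hXf U hU] at h'
      obtain ⟨z, hz, e⟩ := h'
      exact (p ⁻¹ᵁ U).ι.isOpenEmbedding.injective e ▸ hz
    · have h' : (emb p chart U hU).base y ∈ Xf ⊓ p ⁻¹ᵁ U := by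
        rw [hXf U hU]
        exact ⟨_, h, rfl⟩
      exact h'.1
  exact h.trans ((iff_of_eq (congrArg (· ∈ _) e1)).trans (Proj.mem_basicOpen _ _ _))

variable {d : ℕ} (hf : ∀ (U : Y.Opens) (hU : IsAffineOpen U), secOn f U ∈ 𝒮.deg U hU d)
  {n : ℤ} {L : P.Modules}
  {lam : ∀ (U : Y.Opens) (hU : IsAffineOpen U),
    L ⟶ (Scheme.Modules.pushforward (emb p chart U hU)).obj (GrTwist.twist (𝒮.deg U hU) n)}

include hXf hf in
/-- The powers of `f` generate the twist on `X_f`. -/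
theorem exists_isGen_Xf (hP : IsRelProj 𝒮 p chart) (hL : IsRelTwist 𝒮 p chart n L lam) (a b : ℕ)
    (hab : ((a * d : ℕ) : ℤ) = ((b * d : ℕ) : ℤ) + n) : ∃ e : Γ(L, Xf), IsGen L Xf e := by
  have H : ∀ U : Y.affineOpens, ∃ e : Γ(L, Xf ⊓ p ⁻¹ᵁ U.1), ∀ y hy, ∃ hb,
      tv lam U.1 U.2 e y hy = Localization.mk (secOn f U.1 ^ a) ⟨secOn f U.1 ^ b, hb⟩ := fun U ↦ by
    obtain ⟨e, he⟩ := exists_tv_eq hL U.2 (inf_le_right : Xf ⊓ p ⁻¹ᵁ U.1 ≤ _)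
      (pow_mem_deg' (hf U.1 U.2) a) (pow_mem_deg' (hf U.1 U.2) b) hab
      fun y hy ↦ pow_nin ((emb_mem_Xf_iff hXf U.2 y).mp hy.1) b
    exact ⟨e, fun y hy ↦ ⟨_, he y hy⟩⟩
  choose e he using H
  have hcov : Xf ≤ ⨆ U : Y.affineOpens, Xf ⊓ p ⁻¹ᵁ U.1 := le_iSup_inf_preimage Xf
  obtain ⟨e₀, he₀⟩ := QCoh.exists_glue L (fun _ ↦ inf_le_left) hcov e fun U V ↦ by
    refine eq_of_locally_tv hL _ _ fun x hx ↦ ?_
    obtain ⟨r, s, er, hxr⟩ :=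
      exists_basicOpen_le_affine_inter U.2 V.2 (p x) ⟨hx.1.2, hx.2.2⟩
    refine ⟨_, U.2.basicOpen r, hxr, fun y hy ↦ ?_⟩
    rw [tv_res, tv_res]
    obtain ⟨hb, h1⟩ := tv_mk_basic hL hP U.2 (U.2.basicOpen r) (Y.basicOpen_le r) r rfl (e U) _ _
      (he U) y hy.1
    obtain ⟨hb', h2⟩ := tv_mk_basic hL hP V.2 (U.2.basicOpen r) (er ▸ Y.basicOpen_le s) s er.symm
      (e V) _ _ (he V) y hy.2
    refine h1.trans (Eq.trans ?_ h2.symm)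
    simp only [map_pow, secOn_res]
  refine ⟨e₀, isGen_of_isUnit hL e₀ fun x hx ↦ ?_⟩
  obtain ⟨U, hU, hxU⟩ := exists_affine_mem (p := p) x
  refine ⟨U, hU, Xf ⊓ p ⁻¹ᵁ U, inf_le_left, ⟨hx, hxU⟩, inf_le_right, fun y hy ↦ ?_⟩
  obtain ⟨hb, h⟩ := he ⟨U, hU⟩ y hy
  rw [← tv_res U hU (inf_le_left : Xf ⊓ p ⁻¹ᵁ U ≤ Xf) e₀ y hy, he₀ ⟨U, hU⟩, h, isUnit_mk_iff]
  exact pow_nin ((emb_mem_Xf_iff hXf hU y).mp hy.1) a

end Groth.Agent.RelTildeLib
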